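import Cfsg.Agent.Perm.ProdAct.Fibre
import Mathlib.GroupTheory.Perm.ViaEmbedding
import Mathlib.Data.ZMod.Basic
import Mathlib.Logic.Equiv.Fintype

/-! Families of disjoint `p`-cycles in one coordinate, and their recognition. -/

set_option autoImplicit false
set_option linter.unusedSectionVars false

namespace CfsgLib.ProdAct

open Equiv Equiv.Perm

universe u v

variable {ι : Type u} {α : Type v} [Fintype ι] [DecidableEq ι] [Fintype α] [DecidableEq α]
variable {p r : ℕ}

/-- Rotate the `s`-th block by `c s`. -/
noncomputable def shift (e : Fin r × ZMod p ↪ α) (c : Fin r → ZMod p) : Perm α :=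
  Perm.viaEmbedding (prodCongrRight fun s => Equiv.addRight (c s)) e

/-- Negate the blocks in `Q`. -/
noncomputable def negOn (e : Fin r × ZMod p ↪ α) (Q : Finset (Fin r)) : Perm α :=
  Perm.viaEmbedding (prodCongrRight fun s => if s ∈ Q then Equiv.neg (ZMod p) else 1) e

/-- The cycle on the `s`-th block. -/
noncomputable def cyc (e : Fin r × ZMod p ↪ α) (s : Fin r) : Perm α := shift e (Pi.single s 1)

variable (e : Fin r × ZMod p ↪ α)

theorem shift_apply (c : Fin r → ZMod p) (s : Fin r) (x : ZMod p) :
    shift e c (e (s, x)) = e (s, x + c s) := by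
  rw [shift, viaEmbedding_apply]; rfl

theorem shift_out (c : Fin r → ZMod p) {a : α} (h : a ∉ Set.range e) : shift e c a = a :=
  viaEmbedding_apply_of_notMem _ _ _ h

theorem negOn_apply (Q : Finset (Fin r)) (s : Fin r) (x : ZMod p) :
    negOn e Q (e (s, x)) = e (s, if s ∈ Q then -x else x) := by
  rw [negOn, viaEmbedding_apply, prodCongrRight_apply]
  split_ifs <;> rfl

theorem negOn_out (Q : Finset (Fin r)) {a : α} (h : a ∉ Set.range e) : negOn e Q a = a :=
  viaEmbedding_apply_of_notMem _ _ _ h

theorem perm_ext_range {f g : Perm α} (h1 : ∀ x, f (e x) = g (e x))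
    (h2 : ∀ a, a ∉ Set.range e → f a = g a) : f = g := Equiv.ext fun a => by
  by_cases h : a ∈ Set.range e
  · obtain ⟨x, rfl⟩ := h; exact h1 x
  · exact h2 a h

theorem shift_mul (c d : Fin r → ZMod p) : shift e c * shift e d = shift e (c + d) := by
  refine perm_ext_range e (fun ⟨s, x⟩ => ?_) fun a ha => ?_
  · rw [Perm.mul_apply, shift_apply, shift_apply, shift_apply, Pi.add_apply, add_assoc, add_comm (d s)]
  · rw [Perm.mul_apply, shift_out e _ ha, shift_out e _ ha, shift_out e _ ha]

theorem shift_zero : shift e (0 : Fin r → ZMod p) = 1 := by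
  refine perm_ext_range e (fun ⟨s, x⟩ => ?_) fun a ha => ?_
  · rw [shift_apply, Pi.zero_apply, add_zero]; rfl
  · rw [shift_out e _ ha]; rfl

theorem shift_pow (c : Fin r → ZMod p) (n : ℕ) : shift e c ^ n = shift e (n • c) := by
  induction n with
  | zero => rw [pow_zero, zero_smul, shift_zero]
  | succ n ih => rw [pow_succ, ih, shift_mul, succ_nsmul]

theorem shift_pow_p (c : Fin r → ZMod p) : shift e c ^ p = 1 := by
  rw [shift_pow, show p • c = 0 from funext fun s => by simp, shift_zero]

theorem shift_comm (c d : Fin r → ZMod p) : shift e c * shift e d = shift e d * shift e c := by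
  rw [shift_mul, shift_mul, add_comm]

theorem shift_inv (c : Fin r → ZMod p) : (shift e c)⁻¹ = shift e (-c) := by
  rw [inv_eq_iff_mul_eq_one, shift_mul, add_neg_cancel, shift_zero]

theorem conj_shift (ρ : Perm α) (c : Fin r → ZMod p) :
    ρ * shift e c * ρ⁻¹ = shift (e.trans ρ.toEmbedding) c := by
  refine perm_ext_range (e.trans ρ.toEmbedding) (fun ⟨s, x⟩ => ?_) fun a ha => ?_
  · rw [shift_apply, Perm.mul_apply, Perm.mul_apply]
    show ρ (shift e c (ρ⁻¹ (ρ (e (s, x))))) = _
    rw [show ρ⁻¹ (ρ (e (s, x))) = e (s, x) from ρ.symm_apply_apply _, shift_apply]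
    rfl
  · rw [shift_out (e.trans ρ.toEmbedding) _ ha, Perm.mul_apply, Perm.mul_apply, shift_out e]
    · exact ρ.apply_symm_apply a
    · rintro ⟨x, hx⟩
      exact ha ⟨x, by
        show ρ (e x) = a
        rw [hx]; exact ρ.apply_symm_apply a⟩

theorem negOn_conj (Q : Finset (Fin r)) {s : Fin r} (hs : s ∈ Q) :
    negOn e Q * cyc e s * (negOn e Q)⁻¹ = (cyc e s)⁻¹ := by
  rw [mul_inv_eq_iff_eq_mul, cyc, shift_inv]
  refine perm_ext_range e (fun ⟨t, x⟩ => ?_) fun a ha => ?_
  · simp only [Perm.mul_apply, shift_apply, negOn_apply, Pi.neg_apply]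
    rcases eq_or_ne t s with rfl | ht
    · simp [hs, neg_add_rev, add_comm]
    · simp [Pi.single_eq_of_ne ht]
  · simp only [Perm.mul_apply, shift_out e _ ha, negOn_out e _ ha]

theorem cyc_apply_self (s : Fin r) (x : ZMod p) : cyc e s (e (s, x)) = e (s, x + 1) := by
  rw [cyc, shift_apply, Pi.single_eq_same]

theorem cyc_fix {s : Fin r} {a : α} (h : ∀ x, a ≠ e (s, x)) : cyc e s a = a := by
  by_cases ha : a ∈ Set.range e
  · obtain ⟨⟨t, x⟩, rfl⟩ := ha
    rw [cyc, shift_apply, Pi.single_eq_of_ne (fun ht => h x (by rw [ht])), add_zero]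
  · exact shift_out e _ ha

theorem cyc_moved [Fact p.Prime] {s : Fin r} {a : α} : cyc e s a ≠ a ↔ ∃ x, a = e (s, x) := by
  constructor
  · intro h
    by_contra hn
    push Not at hn
    exact h (cyc_fix e hn)
  · rintro ⟨x, rfl⟩ h
    rw [cyc_apply_self] at h
    have h' := e.injective h
    simp at h'

theorem support_cyc [Fact p.Prime] (s : Fin r) :
    (cyc e s).support = Finset.univ.image fun x => e (s, x) := by
  ext a
  simp only [mem_support, cyc_moved, Finset.mem_image, Finset.mem_univ, true_and]
  exact ⟨fun ⟨x, h⟩ => ⟨x, h.symm⟩, fun ⟨x, h⟩ => ⟨x, h.symm⟩⟩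

theorem card_support_cyc [Fact p.Prime] (s : Fin r) : (cyc e s).support.card = p := by
  rw [support_cyc, Finset.card_image_of_injective _ fun x y h => (Prod.ext_iff.1 (e.injective h)).2,
    Finset.card_univ, ZMod.card]

theorem disjoint_support_cyc [Fact p.Prime] {s t : Fin r} (h : s ≠ t) :
    _root_.Disjoint (cyc e s).support (cyc e t).support := by
  rw [Finset.disjoint_left, support_cyc, support_cyc]
  intro a ha hb
  obtain ⟨x, -, rfl⟩ := Finset.mem_image.1 ha
  obtain ⟨y, -, hy⟩ := Finset.mem_image.1 hb
  exact h (Prod.ext_iff.1 (e.injective hy)).1.symm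

theorem sign_shift (hp : Odd p) (c : Fin r → ZMod p) : sign (shift e c) = 1 := by
  have h := congrArg sign (shift_pow_p e c)
  rw [map_pow, map_one] at h
  rcases Int.units_eq_one_or (sign (shift e c)) with h' | h'
  · exact h'
  · rw [h', hp.neg_one_pow] at h
    exact absurd h (by decide)

/-- A power fixing a point fixes it already at exponent one. -/
theorem pow_fix [Fact p.Prime] {β : Type*} {σ : Perm β} (hσ : σ ^ p = 1) {n : ℕ}
    (hn : (n : ZMod p) ≠ 0) {q : β} (h : (σ ^ n) q = q) : σ q = q := by
  have hfix : ∀ t : ℕ, (σ ^ (n * t)) q = q := by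
    intro t
    induction t with
    | zero => simp
    | succ t ih => rw [Nat.mul_succ, pow_add, Perm.mul_apply, h, ih]
  have := hfix ((n : ZMod p)⁻¹).val
  rwa [pow_eq_pow_mod _ hσ, ← ZMod.val_natCast, Nat.cast_mul, ZMod.natCast_val, ZMod.cast_id,
    mul_inv_cancel₀ hn, ZMod.val_one, pow_one] at this

theorem pow_val_injective [Fact p.Prime] {β : Type*} {σ : Perm β} (hσ : σ ^ p = 1) {q : β}
    (hq : σ q ≠ q) : Function.Injective fun x : ZMod p => (σ ^ x.val) q := by
  intro x y h
  by_contra hne
  refine hq (pow_fix hσ (n := (y - x).val) ?_ ?_)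
  · rw [ZMod.natCast_val, ZMod.cast_id]; exact sub_ne_zero.2 (Ne.symm hne)
  · apply (σ ^ x.val).injective
    rw [← Perm.mul_apply, ← pow_add, pow_eq_pow_mod _ hσ, ← ZMod.val_add, add_sub_cancel]
    exact h.symm

theorem le_card_support [Fact p.Prime] {σ : Perm α} (hσ : σ ^ p = 1) (h1 : σ ≠ 1) :
    p ≤ σ.support.card := by
  obtain ⟨q, hq⟩ : ∃ q, σ q ≠ q := by
    by_contra hn
    push Not at hn
    exact h1 (Equiv.ext hn)
  have := Finset.card_le_card_of_injOn (s := (Finset.univ : Finset (ZMod p)))
    (t := σ.support) (fun x : ZMod p => (σ ^ x.val) q)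
    (fun x _ => Finset.mem_coe.2 (by
      rw [mem_support, ← Perm.mul_apply, ← pow_succ', pow_succ, Perm.mul_apply]
      exact fun e' => hq ((σ ^ x.val).injective e')))
    (pow_val_injective hσ hq).injOn
  rwa [Finset.card_univ, ZMod.card] at this

/-- The fixed points of an element. -/
def fixed (g : Perm (ι → α)) : Finset (ι → α) := Finset.univ.filter fun z => g z = z

theorem mem_fixed {g : Perm (ι → α)} {z : ι → α} : z ∈ fixed g ↔ g z = z := by simp [fixed]

theorem fixed_at' (l : ι) (σ : Perm α) : fixed (at' l σ) = region l σ.supportᶜ := by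
  ext z
  simp only [fixed, Finset.mem_filter, Finset.mem_univ, true_and, mem_region, Finset.mem_compl,
    notMem_support]
  refine ⟨fun h => ?_, fun h => at'_fix h⟩
  have := congrFun h l
  rwa [at'_apply_self] at this

theorem fixed_conj_inter (h a b : Perm (ι → α)) :
    (fixed (h * a * h⁻¹) ∩ fixed (h * b * h⁻¹)).card = (fixed a ∩ fixed b).card := by
  rw [← Finset.card_image_of_injective (fixed a ∩ fixed b) h.injective]
  congr 1
  ext z
  obtain ⟨z₀, rfl⟩ := h.surjective z
  rw [h.injective.mem_finset_image, Finset.mem_inter, Finset.mem_inter]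
  simp only [mem_fixed, Perm.mul_apply]
  rw [show h⁻¹ (h z₀) = z₀ from h.symm_apply_apply z₀, h.injective.eq_iff, h.injective.eq_iff]

theorem fixed_conj (h a : Perm (ι → α)) : (fixed (h * a * h⁻¹)).card = (fixed a).card := by
  simpa using fixed_conj_inter h a a

/-- Recognition of a `p`-cycle in one coordinate. -/
theorem detect [Fact p.Prime] (hpm : p + 2 ≤ Fintype.card α) [Nonempty ι] {g : Perm (ι → α)}
    (hg : IsProd g) (hgp : g ^ p = 1)
    (hfix : (fixed g).card = (Fintype.card α - p) * Fintype.card α ^ (Fintype.card ι - 1)) :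
    ∃ i σ, g = at' i σ ∧ σ ^ p = 1 ∧ σ.support.card = p := by
  have hp2 := (Fact.out : p.Prime).two_le
  haveI : Nonempty α := Fintype.card_pos_iff.1 (by omega)
  set m := Fintype.card α
  set d := m ^ (Fintype.card ι - 1) with hd
  have hd0 : 0 < d := Nat.pow_pos (by omega)
  obtain ⟨π, τ, rfl⟩ := hg
  by_cases hπ : π = 1
  · subst hπ
    have hτp : ∀ i, τ i ^ p = 1 := by
      intro i
      have e1 : ∀ n, pr 1 τ ^ n = pr 1 (τ ^ n) := by
        intro n
        induction n with
        | zero => rw [pow_zero, pow_zero, pr_one]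
        | succ n ih =>
          rw [pow_succ, ih, pr_mul, one_mul]
          congr 1
          funext i
          rw [pow_succ]
          rfl
      refine Equiv.ext fun c => ?_
      have := congrFun (Equiv.ext_iff.1 ((e1 p).symm.trans hgp) fun _ => c) i
      exact this
    have hcount : (fixed (pr 1 τ)).card = ∏ i, (τ i).supportᶜ.card := by
      rw [← Fintype.card_piFinset]
      congr 1
      ext z
      simp only [fixed, Finset.mem_filter, Finset.mem_univ, true_and, Fintype.mem_piFinset,
        Finset.mem_compl, notMem_support, funext_iff]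
      rfl
    have hle : ∀ i, (τ i).supportᶜ.card ≤ m := fun i => Finset.card_le_univ _
    have hle' : ∀ i, τ i ≠ 1 → (τ i).supportᶜ.card ≤ m - p := fun i hi => by
      rw [Finset.card_compl]; have := le_card_support (hτp i) hi; omega
    by_cases hex : ∃ i, τ i ≠ 1
    · obtain ⟨i, hi⟩ := hex
      by_cases hone : ∀ l, l ≠ i → τ l = 1
      · have e1 : pr 1 τ = at' i (τ i) := by
          rw [at']; congr 1; funext l
          rcases eq_or_ne l i with rfl | hl
          · rw [Function.update_self]
          · rw [Function.update_of_ne hl, hone l hl]; rfl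
        refine ⟨i, τ i, e1, hτp i, ?_⟩
        rw [e1, fixed_at', card_region, ← hd] at hfix
        have := Nat.eq_of_mul_eq_mul_right hd0 hfix
        rw [Finset.card_compl] at this
        have := Finset.card_le_univ (τ i).support
        have := le_card_support (hτp i) hi
        omega
      · push Not at hone
        obtain ⟨l, hli, hl⟩ := hone
        exfalso
        rw [hcount, ← Finset.mul_prod_erase _ _ (Finset.mem_univ i),
          ← Finset.mul_prod_erase _ _ (Finset.mem_erase.2 ⟨hli, Finset.mem_univ l⟩)] at hfix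
        have hrest : ∏ s ∈ (Finset.univ.erase i).erase l, (τ s).supportᶜ.card ≤
            m ^ (Fintype.card ι - 2) := by
          refine (Finset.prod_le_pow_card _ _ m fun s _ => hle s).trans (le_of_eq ?_)
          rw [Finset.card_erase_of_mem (Finset.mem_erase.2 ⟨hli, Finset.mem_univ l⟩),
            Finset.card_erase_of_mem (Finset.mem_univ i), Finset.card_univ, Nat.sub_sub]
        have h2 : 2 ≤ Fintype.card ι := Fintype.one_lt_card_iff.2 ⟨l, i, hli⟩
        have hd2 : d = m * m ^ (Fintype.card ι - 2) := by
          rw [hd, ← pow_succ']; congr 1; omega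
        have hlt : (m - p) * ((m - p) * m ^ (Fintype.card ι - 2)) < (m - p) * d := by
          rw [hd2]
          exact Nat.mul_lt_mul_of_pos_left
            (Nat.mul_lt_mul_of_pos_right (by omega) (Nat.pow_pos (by omega))) (by omega)
        have := Nat.mul_le_mul (hle' i hi) (Nat.mul_le_mul (hle' l hl) hrest)
        omega
    · push Not at hex
      exfalso
      rw [show τ = (1 : ι → Perm α) from funext hex, pr_one] at hfix
      have e1 : fixed (1 : Perm (ι → α)) = Finset.univ := by simp [fixed]
      rw [e1, Finset.card_univ, card_points (Classical.arbitrary ι), ← hd] at hfix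
      have := Nat.eq_of_mul_eq_mul_right hd0 hfix
      omega
  · exfalso
    obtain ⟨i, hi⟩ : ∃ i, π.symm i ≠ i := by
      by_contra hn
      push Not at hn
      exact hπ (Equiv.ext fun i => by
        have := hn (π i)
        rw [Equiv.symm_apply_apply] at this
        exact this.symm)
    have hle : (fixed (pr π τ)).card ≤ d := by
      calc (fixed (pr π τ)).card ≤ (Finset.univ : Finset ({s // s ≠ i} → α)).card := by
            refine Finset.card_le_card_of_injOn (fun z s => z s.1) (fun _ _ => Finset.mem_univ _)
              fun z hz z' hz' h => ?_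
            simp only [fixed, Finset.coe_filter, Finset.mem_univ, true_and, Set.mem_ofPred_eq] at hz hz'
            funext s
            rcases eq_or_ne s i with rfl | hs
            · rw [← congrFun hz s, ← congrFun hz' s, pr_apply, pr_apply,
                show z (π.symm s) = z' (π.symm s) from congrFun h ⟨_, hi⟩]
            · exact congrFun h ⟨s, hs⟩
        _ = d := by
            rw [Finset.card_univ, Fintype.card_fun, Fintype.card_subtype_compl,
              Fintype.card_subtype_eq]
    rw [hfix] at hle
    have : 1 * d < (m - p) * d := Nat.mul_lt_mul_of_pos_right (by omega) hd0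
    omega

/-- If `h` conjugates a family into the wreath product, it agrees on it with a product element. -/
theorem Hyp.exists_agree [Fact p.Prime] {G : Subgroup (Perm (ι → α))} (hG : Hyp G)
    (hpm : p + 2 ≤ Fintype.card α) [Nontrivial ι] (j : ι) (hr : 0 < r) {h : Perm (ι → α)}
    (hh : ∀ s, IsProd (h * at' j (cyc e s) * h⁻¹)) :
    ∃ w ∈ G, IsProd w ∧ ∀ s, (w⁻¹ * h) * at' j (cyc e s) = at' j (cyc e s) * (w⁻¹ * h) := by
  have hp2 := (Fact.out : p.Prime).two_le
  haveI : Nonempty α := Fintype.card_pos_iff.1 (by omega)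
  set m := Fintype.card α
  have hdet : ∀ s, ∃ i σ, h * at' j (cyc e s) * h⁻¹ = at' i σ ∧ σ ^ p = 1 ∧ σ.support.card = p := by
    intro s
    refine detect hpm (hh s) ?_ ?_
    · rw [conj_pow, at'_pow, cyc, shift_pow_p, at'_one, mul_one, mul_inv_cancel]
    · rw [fixed_conj, fixed_at', card_region, Finset.card_compl, card_support_cyc]
  choose i σ heq hσp hσc using hdet
  -- the cycles share a coordinate and are disjoint
  have hst : ∀ s t, s ≠ t → i s = i t ∧ _root_.Disjoint (σ s).support (σ t).support := by
    intro s t hne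
    have hc := fixed_conj_inter h (at' j (cyc e s)) (at' j (cyc e t))
    rw [heq, heq, fixed_at', fixed_at', fixed_at', fixed_at'] at hc
    have e2 : region j (cyc e s).supportᶜ ∩ region j (cyc e t).supportᶜ =
        region j ((cyc e s).support ∪ (cyc e t).support)ᶜ := by
      ext z; simp [mem_region]
    rw [e2, card_region, Finset.card_compl,
      Finset.card_union_of_disjoint (disjoint_support_cyc e hne), card_support_cyc, card_support_cyc] at hc
    have h2p : p + p ≤ m := by
      have := Finset.card_le_univ ((cyc e s).support ∪ (cyc e t).support)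
      rwa [Finset.card_union_of_disjoint (disjoint_support_cyc e hne), card_support_cyc,
        card_support_cyc] at this
    by_cases hi : i s = i t
    · refine ⟨hi, ?_⟩
      have e3 : region (i s) (σ s).supportᶜ ∩ region (i t) (σ t).supportᶜ =
          region (i s) ((σ s).support ∪ (σ t).support)ᶜ := by
        ext z; simp [mem_region, hi]
      rw [e3, card_region, Finset.card_compl] at hc
      have := Nat.eq_of_mul_eq_mul_right (Nat.pow_pos (show 0 < m by omega)) hc
      have := Finset.card_le_univ ((σ s).support ∪ (σ t).support)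
      have hu := Finset.card_union_add_card_inter (σ s).support (σ t).support
      rw [hσc, hσc] at hu
      rw [Finset.disjoint_iff_inter_eq_empty, ← Finset.card_eq_zero]
      omega
    · exfalso
      have e3 : region (i s) (σ s).supportᶜ ∩ region (i t) (σ t).supportᶜ =
          Fintype.piFinset (Function.update (Function.update
            (fun _ => (Finset.univ : Finset α)) (i s) (σ s).supportᶜ) (i t) (σ t).supportᶜ) := by
        ext z
        simp only [Finset.mem_inter, mem_region, Fintype.mem_piFinset]
        constructor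
        · rintro ⟨h1, h2⟩ a
          rcases eq_or_ne a (i t) with rfl | ha
          · rw [Function.update_self]; exact h2
          · rw [Function.update_of_ne ha]
            rcases eq_or_ne a (i s) with rfl | ha'
            · rw [Function.update_self]; exact h1
            · rw [Function.update_of_ne ha']; exact Finset.mem_univ _
        · intro h1
          refine ⟨?_, ?_⟩
          · simpa [Function.update_of_ne hi] using h1 (i s)
          · simpa using h1 (i t)
      have hmem : i s ∈ Finset.univ.erase (i t) := Finset.mem_erase.2 ⟨hi, Finset.mem_univ _⟩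
      rw [e3, Fintype.card_piFinset, ← Finset.mul_prod_erase _ _ (Finset.mem_univ (i t)),
        ← Finset.mul_prod_erase _ _ hmem, Function.update_self, Function.update_of_ne hi,
        Function.update_self, Finset.card_compl, Finset.card_compl, hσc, hσc,
        Finset.prod_congr rfl (g := fun _ => m) fun a ha => by
          rw [Finset.mem_erase, Finset.mem_erase] at ha
          rw [Function.update_of_ne ha.2.1, Function.update_of_ne ha.1, Finset.card_univ],
        Finset.prod_const, Finset.card_erase_of_mem hmem,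
        Finset.card_erase_of_mem (Finset.mem_univ (i t)), Finset.card_univ] at hc
      have h2 : 2 ≤ Fintype.card ι := Fintype.one_lt_card
      rw [show Fintype.card ι - 1 = Fintype.card ι - 1 - 1 + 1 by omega, pow_succ', ← mul_assoc,
        ← mul_assoc, Nat.add_sub_cancel] at hc
      have h4 := Nat.eq_of_mul_eq_mul_right (Nat.pow_pos (show 0 < m by omega)) hc
      obtain ⟨a, ha⟩ : ∃ a, m = p + p + a := ⟨m - (p + p), by omega⟩
      have hz1 : m - p = p + a := by omega
      have hz2 : m - (p + p) = a := by omega
      rw [hz1, hz2] at h4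
      rw [show Fintype.card α = p + p + a from ha] at h4
      nlinarith
  set i₀ := i ⟨0, hr⟩ with hi₀
  have hall : ∀ s, i s = i₀ := fun s => by
    by_cases hs : s = ⟨0, hr⟩
    · rw [hs]
    · exact (hst s _ hs).1
  have hq : ∀ s, ∃ q, σ s q ≠ q := fun s => by
    obtain ⟨q, hq⟩ := Finset.card_pos.1 (show 0 < (σ s).support.card by rw [hσc]; omega)
    exact ⟨q, mem_support.1 hq⟩
  choose q hq using hq
  have hin : ∀ s (x : ZMod p), (σ s ^ x.val) (q s) ∈ (σ s).support := fun s x => by
    rw [mem_support, ← Perm.mul_apply, ← pow_succ', pow_succ, Perm.mul_apply]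
    exact fun e' => hq s ((σ s ^ x.val).injective e')
  let e' : Fin r × ZMod p ↪ α := ⟨fun x => (σ x.1 ^ x.2.val) (q x.1), by
    rintro ⟨s, x⟩ ⟨t, y⟩ hxy
    dsimp only at hxy
    by_cases hs : s = t
    · subst hs; exact Prod.ext rfl (pow_val_injective (hσp s) (hq s) hxy)
    · exact absurd (hxy ▸ hin s x) (Finset.disjoint_right.1 (hst s t hs).2 (hin t y))⟩
  have hblock : ∀ s, Finset.univ.image (fun x : ZMod p => e' (s, x)) = (σ s).support := by
    intro s
    refine Finset.eq_of_subset_of_card_le ?_ ?_
    · intro a ha; obtain ⟨x, -, rfl⟩ := Finset.mem_image.1 ha; exact hin s x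
    · rw [Finset.card_image_of_injective _ fun x y h' => (Prod.ext_iff.1 (e'.injective h')).2,
        Finset.card_univ, ZMod.card, hσc]
  have hσe : ∀ s, σ s = cyc e' s := by
    intro s
    refine Equiv.ext fun a => ?_
    by_cases ha : a ∈ (σ s).support
    · rw [← hblock] at ha
      obtain ⟨x, -, rfl⟩ := Finset.mem_image.1 ha
      rw [cyc_apply_self]
      show σ s ((σ s ^ x.val) (q s)) = (σ s ^ (x + 1).val) (q s)
      rw [← Perm.mul_apply, ← pow_succ', pow_eq_pow_mod _ (hσp s), ZMod.val_add, ZMod.val_one]
    · rw [notMem_support.1 ha, cyc_fix]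
      intro x hx
      exact ha (hblock s ▸ Finset.mem_image.2 ⟨x, Finset.mem_univ x, hx.symm⟩)
  obtain ⟨ρ, hρ⟩ : ∃ ρ : Perm α, ∀ x, ρ (e x) = e' x := by
    classical
    refine ⟨Equiv.extendSubtype ((Equiv.ofInjective e e.injective).symm.trans
      (Equiv.ofInjective e' e'.injective)), fun x => ?_⟩
    rw [Equiv.extendSubtype_apply_of_mem _ _ (Set.mem_range_self x)]
    simp [Equiv.ofInjective_symm_apply]
  have hee : e.trans ρ.toEmbedding = e' := Function.Embedding.ext hρ
  obtain ⟨l, hl⟩ := exists_ne i₀
  obtain ⟨a, b, hab⟩ := Fintype.exists_pair_of_one_lt_card (show 1 < Fintype.card α by omega)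
  obtain ⟨δ, -, hw⟩ := hG.lift (swap j i₀) (Function.update 1 i₀ ρ) l hab
  refine ⟨_, hw, (isProd_at' l δ).mul ⟨_, _, rfl⟩, fun s => ?_⟩
  set w := at' l δ * pr (swap j i₀) (Function.update 1 i₀ ρ) with hw'
  have hconj : w * at' j (cyc e s) * w⁻¹ = h * at' j (cyc e s) * h⁻¹ := by
    rw [heq, hw', hall]
    have e1 := pr_conj_at' (swap j i₀) (Function.update 1 i₀ ρ) j (cyc e s)
    rw [swap_apply_left, Function.update_self, cyc, conj_shift, hee] at e1
    have e2 : at' l δ * at' i₀ (σ s) * (at' l δ)⁻¹ = at' i₀ (σ s) := by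
      rw [show at' l δ = pr 1 (Function.update 1 l δ) from rfl, pr_conj_at']
      rw [Function.update_of_ne (by exact hl.symm : (1 : Perm ι) i₀ ≠ l)]
      simp
    rw [← e2, hσe, cyc, cyc, ← e1]
    rw [mul_inv_rev]
    group
  calc w⁻¹ * h * at' j (cyc e s) = w⁻¹ * (h * at' j (cyc e s) * h⁻¹) * h := by group
    _ = w⁻¹ * (w * at' j (cyc e s) * w⁻¹) * h := by rw [hconj]
    _ = at' j (cyc e s) * (w⁻¹ * h) := by group

end CfsgLib.ProdAct
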