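import Cfsg.Agent.Perm.ProdAct.Defs
import Mathlib.Logic.Equiv.Fintype
import Mathlib.GroupTheory.Perm.ClosureSwap
import Mathlib.Data.Fintype.BigOperators

/-! Signs in the product action. -/

set_option autoImplicit false
set_option linter.unusedSectionVars false

namespace CfsgLib.ProdAct

open Equiv Equiv.Perm

universe u v

variable {ι : Type u} {α : Type v} [Fintype ι] [DecidableEq ι] [Fintype α] [DecidableEq α]

theorem units_pow_of_even (s : ℤˣ) {n : ℕ} (h : Even n) : s ^ n = 1 := by
  obtain ⟨t, rfl⟩ := h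
  rw [← two_mul, pow_mul]
  rcases Int.units_eq_one_or s with rfl | rfl <;> simp

theorem units_pow_of_odd (s : ℤˣ) {n : ℕ} (h : Odd n) : s ^ n = s := by
  obtain ⟨t, rfl⟩ := h
  rw [pow_succ, units_pow_of_even s ⟨t, by ring⟩, one_mul]

theorem sign_at' (l : ι) (ρ : Perm α) :
    sign (at' l ρ) = sign ρ ^ (Fintype.card α ^ (Fintype.card ι - 1)) := by
  have e : (Equiv.funSplitAt l α).permCongr (at' l ρ) =
      prodCongrLeft fun _ : {j // j ≠ l} → α => ρ := by
    refine Equiv.ext fun x => ?_
    obtain ⟨a, r⟩ := x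
    rw [Equiv.permCongr_apply, prodCongrLeft_apply]
    refine Prod.ext ?_ (funext fun s => ?_)
    · simp [Equiv.funSplitAt, Equiv.piSplitAt, at'_apply_self]
    · simp [Equiv.funSplitAt, Equiv.piSplitAt, at'_apply_ne s.2, s.2]
  rw [← sign_permCongr (Equiv.funSplitAt l α), e, sign_prodCongrLeft, Finset.prod_const,
    Finset.card_univ, Fintype.card_fun, Fintype.card_subtype_compl, Fintype.card_subtype_eq]

theorem sign_pr_one (τ : ι → Perm α) :
    sign (pr 1 τ) = ∏ i, sign (τ i) ^ (Fintype.card α ^ (Fintype.card ι - 1)) := by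
  suffices H : ∀ s : Finset ι, ∀ τ : ι → Perm α, (∀ i ∉ s, τ i = 1) →
      sign (pr 1 τ) = ∏ i ∈ s, sign (τ i) ^ (Fintype.card α ^ (Fintype.card ι - 1)) from
    H Finset.univ τ fun i hi => absurd (Finset.mem_univ i) hi
  intro s
  induction s using Finset.induction with
  | empty =>
    intro τ hτ
    rw [show τ = (1 : ι → Perm α) from funext fun i => hτ i (Finset.notMem_empty i), pr_one, map_one,
      Finset.prod_empty]
  | insert l s hl ih =>
    intro τ hτ
    have e : pr 1 τ = at' l (τ l) * pr 1 (Function.update τ l 1) := by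
      rw [at', pr_mul, one_mul]
      congr 1
      funext i
      show τ i = Function.update (1 : ι → Perm α) l (τ l) i * Function.update τ l 1 i
      rcases eq_or_ne i l with rfl | h
      · simp
      · simp [Function.update_of_ne h]
    rw [e, map_mul, sign_at', ih _ fun i hi => ?_, Finset.prod_insert hl]
    · congr 1
      refine Finset.prod_congr rfl fun i hi => ?_
      rw [Function.update_of_ne (fun h : i = l => hl (h ▸ hi))]
    · rcases eq_or_ne i l with rfl | h
      · rw [Function.update_self]
      · rw [Function.update_of_ne h, hτ i (by simp [h, hi])]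

theorem sign_prodComm (h : 4 ∣ Fintype.card α) : sign (Equiv.prodComm α α) = 1 := by
  obtain ⟨t, ht⟩ := h
  let e : α ≃ Fin 2 × Fin (2 * t) := Fintype.equivOfCardEq (by simp; omega)
  let E : α × α ≃ (Fin 2 × Fin 2) × (Fin (2 * t) × Fin (2 * t)) :=
    (e.prodCongr e).trans (Equiv.prodProdProdComm _ _ _ _)
  have key : E.permCongr (Equiv.prodComm α α) =
      (prodCongrLeft fun _ => Equiv.prodComm (Fin 2) (Fin 2)) *
      (prodCongrRight fun _ => Equiv.prodComm (Fin (2 * t)) (Fin (2 * t))) := by
    refine Equiv.ext fun x => ?_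
    obtain ⟨⟨a, b⟩, c, d⟩ := x
    simp [E, Equiv.permCongr_apply, Equiv.prodProdProdComm, Perm.mul_apply]
  rw [← sign_permCongr E, key, map_mul, sign_prodCongrLeft, sign_prodCongrRight, Finset.prod_const,
    Finset.prod_const, Finset.card_univ, Finset.card_univ]
  simp only [Fintype.card_prod, Fintype.card_fin]
  rw [units_pow_of_even _ ⟨t * (2 * t), by ring⟩, units_pow_of_even _ ⟨2, rfl⟩, one_mul]

theorem sign_pr_perm (hev : Even (Fintype.card α))
    (h : Fintype.card ι ≤ 2 → 4 ∣ Fintype.card α) (π : Perm ι) :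
    sign (pr π (1 : ι → Perm α)) = 1 := by
  induction π using Equiv.Perm.swap_induction_on with
  | one => rw [pr_one, map_one]
  | swap_mul f i l hil ih =>
    have e : pr (swap i l * f) (1 : ι → Perm α) = pr (swap i l) 1 * pr f 1 := by
      rw [pr_mul]; congr 1
    rw [e, map_mul, ih, mul_one]
    let E : (ι → α) ≃ (α × α) × ({s // s ≠ i ∧ s ≠ l} → α) :=
      { toFun := fun z => ((z i, z l), fun s => z s.1)
        invFun := fun x s => if h1 : s = i then x.1.1 else if h2 : s = l then x.1.2 else x.2 ⟨s, h1, h2⟩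
        left_inv := fun z => by
          funext s
          dsimp only
          split_ifs with h1 h2
          · rw [h1]
          · rw [h2]
          · rfl
        right_inv := fun x => by
          obtain ⟨⟨a, b⟩, r⟩ := x
          refine Prod.ext (Prod.ext ?_ ?_) (funext fun s => ?_)
          · simp
          · simp [Ne.symm hil]
          · simp [s.2.1, s.2.2] }
    have key : E.permCongr (pr (swap i l) 1) = prodCongrLeft fun _ => Equiv.prodComm α α := by
      refine Equiv.ext fun x => ?_
      obtain ⟨⟨a, b⟩, r⟩ := x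
      refine Prod.ext (Prod.ext ?_ ?_) (funext fun s => ?_)
      · simp [E, Equiv.permCongr_apply, pr_apply, Ne.symm hil]
      · simp [E, Equiv.permCongr_apply, pr_apply]
      · simp [E, Equiv.permCongr_apply, pr_apply, swap_apply_of_ne_of_ne s.2.1 s.2.2, s.2.1, s.2.2]
    rw [← sign_permCongr E, key, sign_prodCongrLeft, Finset.prod_const, Finset.card_univ,
      Fintype.card_fun]
    by_cases h4 : 4 ∣ Fintype.card α
    · rw [sign_prodComm h4, one_pow]
    · refine units_pow_of_even _ (Nat.even_pow.2 ⟨hev, ?_⟩)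
      rw [← Nat.pos_iff_ne_zero, Fintype.card_pos_iff]
      have h3 : 3 ≤ Fintype.card ι := by
        by_contra h'; exact h4 (h (by omega))
      obtain ⟨s, hs⟩ := Finset.exists_mem_notMem_of_card_lt_card (s := ({i, l} : Finset ι))
        (t := Finset.univ) (lt_of_le_of_lt Finset.card_le_two (by rw [Finset.card_univ]; omega))
      simp only [Finset.mem_insert, Finset.mem_singleton, not_or] at hs
      exact ⟨⟨s, hs.2.1, hs.2.2⟩⟩

end CfsgLib.ProdAct
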