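import Cfsg.Agent.Perm.ProdAct.Region
import Cfsg.Agent.Perm.ProdAct.Family
import Cfsg.Agent.Perm.ProdAct.Parity

/-! Elements of `G` centralising a family of cycles in one coordinate. -/

set_option autoImplicit false
set_option linter.unusedSectionVars false
set_option maxHeartbeats 800000

namespace CfsgLib.ProdAct

open Equiv Equiv.Perm

universe u v

variable {ι : Type u} {α : Type v} [Fintype ι] [DecidableEq ι] [Fintype α] [DecidableEq α]
variable {p r : ℕ} [Fact p.Prime]

/-- The values outside the family. -/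
def outside (e : Fin r × ZMod p ↪ α) : Finset α := (Finset.univ.map e)ᶜ

theorem mem_outside {e : Fin r × ZMod p ↪ α} {a : α} : a ∈ outside e ↔ a ∉ Set.range e := by
  simp [outside]

theorem apply_notMem_outside (e : Fin r × ZMod p ↪ α) (x : Fin r × ZMod p) : e x ∉ outside e :=
  fun h => mem_outside.1 h ⟨x, rfl⟩

/-- The admissible families. -/
structure Good (e : Fin r × ZMod p ↪ α) : Prop where
  odd : p ≠ 2
  pos : 0 < r
  two_le : 2 ≤ (outside e).card
  small : 2 * (outside e).card ≤ Fintype.card α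
  five : 5 ≤ Fintype.card α
  shape : Even (Fintype.card α) ∨ 2 ≤ r ∨ p = 5 ∨ (p = 3 ∧ r = 1 ∧ (outside e).card = 2)

theorem zmod3_cases : ∀ x : ZMod 3, x = 0 ∨ x = 1 ∨ x = -1 := by decide

theorem zmod3_triple : ∀ x : ZMod 3, x + x + x = 0 := by decide

theorem zmod3_ne : (0 : ZMod 3) ≠ 1 ∧ (0 : ZMod 3) ≠ -1 ∧ (1 : ZMod 3) ≠ -1 := by decide

theorem sign_neg_three : sign (Equiv.neg (ZMod 3)) = -1 := by decide

theorem sign_neg_five : sign (Equiv.neg (ZMod 5)) = 1 := by decide

theorem sign_negOn (e : Fin r × ZMod p ↪ α) (Q : Finset (Fin r)) :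
    sign (negOn e Q) = sign (Equiv.neg (ZMod p)) ^ Q.card := by
  rw [negOn, Perm.viaEmbedding, sign_extendDomain, sign_prodCongrRight, ← Finset.prod_const,
    ← Finset.prod_filter_mul_prod_filter_not Finset.univ (fun s => s ∈ Q)]
  rw [Finset.filter_univ_mem, Finset.prod_congr rfl fun s hs => by rw [if_pos hs],
    Finset.prod_eq_one (s := Finset.univ.filter fun s => ¬ s ∈ Q) fun s hs => by
      rw [if_neg (Finset.mem_filter.1 hs).2, map_one], mul_one]

theorem negOn_single_three (e : Fin r × ZMod p ↪ α) (hp : p = 3) (s : Fin r) :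
    swap (e (s, 1)) (e (s, -1)) = negOn e {s} := by
  subst hp
  refine perm_ext_range e (fun ⟨t, x⟩ => ?_) fun a ha => ?_
  · rw [negOn_apply]
    rcases eq_or_ne t s with rfl | ht
    · rw [if_pos (Finset.mem_singleton_self t)]
      have hx := zmod3_cases x
      rcases hx with rfl | rfl | rfl
      · rw [neg_zero, swap_apply_of_ne_of_ne] <;> intro h
        · exact zmod3_ne.1 (Prod.ext_iff.1 (e.injective h)).2
        · exact zmod3_ne.2.1 (Prod.ext_iff.1 (e.injective h)).2
      · rw [swap_apply_left]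
      · rw [swap_apply_right, neg_neg]
    · rw [if_neg (by simpa using ht), swap_apply_of_ne_of_ne] <;> intro h <;>
        exact ht (Prod.ext_iff.1 (e.injective h)).1
  · rw [negOn_out e _ ha, swap_apply_of_ne_of_ne] <;> intro h <;> exact ha ⟨_, h.symm⟩

variable {G : Subgroup (Perm (ι → α))}

/-- Commutation with the family, in terms of the rotations. -/
theorem comm_single {g : Perm (ι → α)} {j : ι} {e : Fin r × ZMod p ↪ α}
    (hg : ∀ s, g * at' j (cyc e s) = at' j (cyc e s) * g) (s : Fin r) (n : ZMod p) (z : ι → α) :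
    g (at' j (shift e (Pi.single s n)) z) = at' j (shift e (Pi.single s n)) (g z) := by
  have e1 : at' j (shift e (Pi.single s n)) = at' (ι := ι) j (cyc e s) ^ n.val := by
    rw [at'_pow, cyc, shift_pow]
    congr 2
    funext t
    rcases eq_or_ne t s with rfl | ht
    · simp
    · simp [Pi.single_eq_of_ne ht]
  have h : Commute g (at' j (cyc e s) ^ n.val) := Commute.pow_right (hg s) _
  rw [e1]
  exact Equiv.ext_iff.1 h.eq z

theorem block_iff {g : Perm (ι → α)} {j : ι} {e : Fin r × ZMod p ↪ α}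
    (hg : ∀ s, g * at' j (cyc e s) = at' j (cyc e s) * g) (s : Fin r) (z : ι → α) :
    (∃ x, g z j = e (s, x)) ↔ ∃ x, z j = e (s, x) := by
  have hc : g (at' j (cyc e s) z) = at' j (cyc e s) (g z) := Equiv.ext_iff.1 (hg s) z
  rw [← cyc_moved, ← cyc_moved]
  constructor
  · intro h h'
    apply h
    rw [at'_fix h'] at hc
    have := congrFun hc j
    rw [at'_apply_self] at this
    exact this.symm
  · intro h h'
    apply h
    rw [at'_fix h'] at hc
    have := congrFun (g.injective hc) j
    rwa [at'_apply_self] at this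

theorem outside_iff {g : Perm (ι → α)} {j : ι} {e : Fin r × ZMod p ↪ α}
    (hg : ∀ s, g * at' j (cyc e s) = at' j (cyc e s) * g) (z : ι → α) :
    g z j ∈ outside e ↔ z j ∈ outside e := by
  simp only [mem_outside, Set.mem_range, not_iff_not]
  constructor
  · rintro ⟨⟨s, x⟩, hx⟩
    obtain ⟨y, hy⟩ := (block_iff hg s z).1 ⟨x, hx.symm⟩
    exact ⟨_, hy.symm⟩
  · rintro ⟨⟨s, x⟩, hx⟩
    obtain ⟨y, hy⟩ := (block_iff hg s z).2 ⟨x, hx.symm⟩
    exact ⟨_, hy.symm⟩

/-- Two points differing by a rotation in the coordinate `j`. -/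
theorem at'_shift_eq {j : ι} {e : Fin r × ZMod p ↪ α} (s : Fin r) (x y : ZMod p) (z : ι → α)
    (hz : z j = e (s, x)) :
    at' j (shift e (Pi.single s (y - x))) z = Function.update z j (e (s, y)) := by
  rw [at'_apply, hz, shift_apply, Pi.single_eq_same, add_sub_cancel]

/-- The inverting elements. -/
theorem exists_inverter (hG : Hyp G) {j : ι} {e : Fin r × ZMod p ↪ α} (hgood : Good e) (s : Fin r) :
    ∃ ρ : Perm α, at' j ρ ∈ G ∧ (∀ t x, ∃ y, ρ (e (t, x)) = e (t, y)) ∧
      (∀ x, ρ (e (s, x)) = e (s, -x)) ∧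
      ((∀ a ∈ outside e, ρ a = a) ∨ (¬ Even (Fintype.card α) ∧ p = 3 ∧ r = 1 ∧
        (outside e).card = 2 ∧ ρ * cyc e s * ρ⁻¹ = (cyc e s)⁻¹)) := by
  have pure : ∀ Q : Finset (Fin r), s ∈ Q → (Even (Fintype.card α) ∨ sign (negOn e Q) = 1) →
      ∃ ρ : Perm α, at' j ρ ∈ G ∧ (∀ t x, ∃ y, ρ (e (t, x)) = e (t, y)) ∧
      (∀ x, ρ (e (s, x)) = e (s, -x)) ∧
      ((∀ a ∈ outside e, ρ a = a) ∨ (¬ Even (Fintype.card α) ∧ p = 3 ∧ r = 1 ∧
        (outside e).card = 2 ∧ ρ * cyc e s * ρ⁻¹ = (cyc e s)⁻¹)) := fun Q hQ hsg =>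
    ⟨negOn e Q, hG.at'_mem j hsg, fun t x => ⟨_, negOn_apply e Q t x⟩,
      fun x => by rw [negOn_apply, if_pos hQ],
      Or.inl fun a ha => negOn_out e Q (mem_outside.1 ha)⟩
  by_cases hev : Even (Fintype.card α)
  · exact pure {s} (Finset.mem_singleton_self s) (Or.inl hev)
  rcases hgood.shape with h | h | h | ⟨h3, hr1, hU⟩
  · exact absurd h hev
  · haveI : Nontrivial (Fin r) := Fin.nontrivial_iff_two_le.2 h
    obtain ⟨t, ht⟩ := exists_ne s
    refine pure {s, t} (Finset.mem_insert_self _ _) (Or.inr ?_)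
    rw [sign_negOn, Finset.card_pair ht.symm, units_pow_of_even _ ⟨1, rfl⟩]
  · subst h
    refine pure {s} (Finset.mem_singleton_self s) (Or.inr ?_)
    rw [sign_negOn, Finset.card_singleton, pow_one]
    convert sign_neg_five
  · obtain ⟨u₁, u₂, hu, hU'⟩ := Finset.card_eq_two.1 hU
    have hu₁ : u₁ ∉ Set.range e := mem_outside.1 (by simp [hU'])
    have hu₂ : u₂ ∉ Set.range e := mem_outside.1 (by simp [hU'])
    have hsw : ∀ x, swap u₁ u₂ (e x) = e x := fun x =>
      swap_apply_of_ne_of_ne (fun h => hu₁ ⟨x, h⟩) fun h => hu₂ ⟨x, h⟩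
    refine ⟨negOn e {s} * swap u₁ u₂, hG.at'_mem j (Or.inr ?_), fun t x => ⟨if t ∈ ({s} : Finset (Fin r)) then -x else x, ?_⟩, fun x => ?_,
      Or.inr ⟨hev, h3, hr1, hU, ?_⟩⟩
    · rw [map_mul, sign_swap hu, sign_negOn, Finset.card_singleton, pow_one]
      subst h3
      rw [show sign (Equiv.neg (ZMod 3)) = -1 by convert sign_neg_three]
      rfl
    · rw [Perm.mul_apply, hsw, negOn_apply]
    · rw [Perm.mul_apply, hsw, negOn_apply, if_pos (Finset.mem_singleton_self s)]
    · have hcomm : swap u₁ u₂ * cyc e s * (swap u₁ u₂)⁻¹ = cyc e s := by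
        rw [cyc, conj_shift, show e.trans (swap u₁ u₂).toEmbedding = e from
          Function.Embedding.ext hsw]
      calc negOn e {s} * swap u₁ u₂ * cyc e s * (negOn e {s} * swap u₁ u₂)⁻¹
          = negOn e {s} * (swap u₁ u₂ * cyc e s * (swap u₁ u₂)⁻¹) * (negOn e {s})⁻¹ := by group
        _ = (cyc e s)⁻¹ := by rw [hcomm, negOn_conj e _ (Finset.mem_singleton_self s)]

/-- The exceptional case `m = 5`: no element centralising the cycle mixes the other coordinates. -/
theorem Hyp.outside_preserves (hG : Hyp G) [Nontrivial ι] (hA : ¬ alternatingGroup (ι → α) ≤ G)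
    {j : ι} {e : Fin r × ZMod p ↪ α} (hgood : Good e) (hodd : ¬ Even (Fintype.card α)) (hp : p = 3)
    (hr : r = 1) (hU : (outside e).card = 2) {q : Perm (ι → α)} (hq : q ∈ G) (hqs : sign q = 1)
    (hqc : ∀ s, q * at' j (cyc e s) = at' j (cyc e s) * q)
    (hqT : ∀ z : ι → α, z j ∉ outside e → ∀ i, i ≠ j → q z i = z i) :
    ∀ z : ι → α, z j ∈ outside e → ∀ i, i ≠ j → q z i = z i := by
  have hm := hgood.five
  let K : Subgroup (Perm (ι → α)) :=
    { carrier := {w | (w ∈ G ∧ sign w = 1) ∧ (∀ s, Commute w (at' j (cyc e s))) ∧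
        ∀ z : ι → α, z j ∉ outside e → ∀ i, i ≠ j → w z i = z i}
      one_mem' := ⟨⟨G.one_mem, map_one _⟩, fun s => Commute.one_left _, fun z _ i _ => rfl⟩
      mul_mem' := fun {a b} ha hb => ⟨⟨G.mul_mem ha.1.1 hb.1.1, by rw [map_mul, ha.1.2, hb.1.2, one_mul]⟩,
        fun s => (ha.2.1 s).mul_left (hb.2.1 s), fun z hz i hi => by
          rw [Perm.mul_apply, ha.2.2 (b z) (fun h => hz ((outside_iff hb.2.1 z).1 h)) i hi,
            hb.2.2 z hz i hi]⟩
      inv_mem' := fun {a} ha => ⟨⟨G.inv_mem ha.1.1, by rw [map_inv, ha.1.2, inv_one]⟩,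
        fun s => (ha.2.1 s).inv_left, fun z hz i hi => by
          have e1 : a (a⁻¹ z) = z := a.apply_symm_apply z
          have := ha.2.2 (a⁻¹ z) (fun h => hz (by
            have := (outside_iff ha.2.1 (a⁻¹ z)).2 h; rwa [e1] at this)) i hi
          rw [e1] at this
          exact this.symm⟩ }
  -- on the moved region every element is a rotation
  have hrot : ∀ w ∈ K, ∀ z : ι → α, z j ∉ outside e →
      ∃ s n, w z = at' j (shift e (Pi.single s n)) z := by
    intro w hw z hz
    rw [mem_outside, not_not] at hz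
    obtain ⟨⟨s, x⟩, hx⟩ := hz
    obtain ⟨y, hy⟩ := (block_iff hw.2.1 s z).2 ⟨x, hx.symm⟩
    refine ⟨s, y - x, ?_⟩
    rw [at'_shift_eq s x y z hx.symm]
    funext i
    rcases eq_or_ne i j with rfl | hi
    · rw [hy, Function.update_self]
    · rw [Function.update_of_ne hi]
      exact hw.2.2 z (hx.symm ▸ apply_notMem_outside e _) i hi
  have hkill : ∀ w ∈ K, (∀ z : ι → α, z j ∉ outside e → w z = z) → w = 1 := by
    intro w hw hfix
    obtain ⟨f, rfl⟩ := hG.region_fix hm hA (Finset.card_pos.1 (by omega)) hgood.small hw.1.1 hfix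
    have hsg := hw.1.2
    rw [sign_at', units_pow_of_odd _ (Nat.not_even_iff_odd.1 hodd).pow] at hsg
    obtain ⟨u₁, u₂, hu, hU'⟩ := Finset.card_eq_two.1 hU
    have hff : ∀ a, a ∉ outside e → f a = a := fun a ha => by
      have := congrFun (hfix (fun _ => a) ha) j
      rwa [at'_apply_self] at this
    have hmaps : ∀ a ∈ outside e, f a ∈ outside e := fun a ha => by
      by_contra h
      have := f.injective (hff _ h)
      exact h (this.symm ▸ ha)
    have h2 : ∀ a, a = u₁ ∨ a = u₂ ↔ a ∈ outside e := fun a => by simp [hU']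
    have hcases : f = 1 ∨ f = swap u₁ u₂ := by
      have k1 := (h2 _).2 (hmaps u₁ (by simp [hU']))
      have k2 := (h2 _).2 (hmaps u₂ (by simp [hU']))
      rcases k1 with k1 | k1
      · left
        refine Equiv.ext fun a => ?_
        by_cases ha : a ∈ outside e
        · rcases (h2 a).2 ha with rfl | rfl
          · exact k1
          · exact k2.resolve_left fun h => hu (f.injective (h.trans k1.symm)).symm
        · exact hff a ha
      · right
        refine Equiv.ext fun a => ?_
        by_cases ha : a ∈ outside e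
        · rcases (h2 a).2 ha with rfl | rfl
          · rw [k1, swap_apply_left]
          · rw [k2.resolve_right fun h => hu (f.injective (k1.trans h.symm)), swap_apply_right]
        · rw [hff a ha, swap_apply_of_ne_of_ne] <;> intro h <;> exact ha ((h2 a).1 (by simp [h]))
    rcases hcases with rfl | rfl
    · exact at'_one j
    · rw [sign_swap hu] at hsg
      exact absurd hsg (by decide)
  have hab : ∀ w₁ ∈ K, ∀ w₂ ∈ K, w₁ * w₂ = w₂ * w₁ := by
    intro w₁ h1 w₂ h2
    have := hkill (w₁ * w₂ * (w₂ * w₁)⁻¹) (K.mul_mem (K.mul_mem h1 h2) (K.inv_mem (K.mul_mem h2 h1)))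
      fun z hz => ?_
    · rwa [mul_inv_eq_one] at this
    · obtain ⟨z₀, rfl⟩ := (w₂ * w₁).surjective z
      rw [Perm.mul_apply _ (w₂ * w₁)⁻¹, show (w₂ * w₁)⁻¹ ((w₂ * w₁) z₀) = z₀ from
        Equiv.symm_apply_apply _ _]
      have hz₀ : z₀ j ∉ outside e := fun h =>
        hz ((outside_iff (K.mul_mem h2 h1).2.1 z₀).2 h)
      obtain ⟨s₁, n₁, e1⟩ := hrot w₁ h1 z₀ hz₀
      obtain ⟨s₂, n₂, e2⟩ := hrot w₂ h2 z₀ hz₀
      rw [Perm.mul_apply, Perm.mul_apply, e2, comm_single h1.2.1, e1, comm_single h2.2.1, e2,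
        ← Perm.mul_apply, ← Perm.mul_apply, at'_mul, at'_mul, shift_comm]
  have hcube : ∀ w ∈ K, ∀ z, w (w (w z)) = z := by
    intro w hw
    have := hkill (w * w * w) (K.mul_mem (K.mul_mem hw hw) hw) fun z hz => by
      obtain ⟨s, n, e1⟩ := hrot w hw z hz
      rw [Perm.mul_apply, Perm.mul_apply, e1, comm_single hw.2.1, e1, comm_single hw.2.1,
        comm_single hw.2.1, e1, ← Perm.mul_apply, ← Perm.mul_apply, at'_mul, at'_mul, shift_mul,
        shift_mul]
      subst hp
      rw [show Pi.single s n + Pi.single s n + Pi.single s n = (0 : Fin r → ZMod 3) from ?_,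
        shift_zero, at'_one]
      · rfl
      · funext t
        simp only [Pi.add_apply, Pi.zero_apply]
        generalize (Pi.single s n : Fin r → ZMod 3) t = c
        exact zmod3_triple c
    exact fun z => Equiv.ext_iff.1 this z
  intro z₀ hz₀ i₀ hi₀
  by_contra hne
  have hqK : q ∈ K := ⟨⟨hq, hqs⟩, hqc, hqT⟩
  have hFinv : ∀ w ∈ K, ∀ z : ι → α, z j ∈ outside e → w z j ∈ outside e :=
    fun w hw z hz => (outside_iff hw.2.1 z).2 hz
  have s₀ : Fin r := ⟨0, by omega⟩
  have hs₀ : ∀ s, s = (⟨0, by omega⟩ : Fin r) := fun s => Fin.ext (by have := s.isLt; simp; omega)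
  set s₁ : Fin r := ⟨0, by omega⟩
  have hneg : e (s₁, 1) ≠ e (s₁, -1) := fun h => by
    have := (Prod.ext_iff.1 (e.injective h)).2
    subst hp
    exact zmod3_ne.2.2 this
  have hnorm : ∀ π τ, π j = j → τ j = 1 → ∃ W : Perm (ι → α),
      (∀ z : ι → α, z j ∈ outside e → W z = pr π τ z) ∧ ∀ w ∈ K, W * w * W⁻¹ ∈ K := by
    intro π τ hπ hτ
    obtain ⟨δ, hδ, hW⟩ := hG.lift π τ j hneg
    have hπ' : π.symm j = j := π.injective (by rw [π.apply_symm_apply, hπ])
    have hl0 : ∀ z, pr π τ z j = z j := fun z => by rw [pr_apply, hτ, hπ']; rfl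
    set W := at' j δ * pr π τ with hWdef
    have hWl : ∀ z, W z j = δ (z j) := fun z => by
      rw [hWdef, Perm.mul_apply, at'_apply_self, hl0]
    have hδT : ∀ a, δ a ∈ outside e ↔ a ∈ outside e :=
      swap_mem_iff (iff_of_false (apply_notMem_outside e _) (apply_notMem_outside e _)) hδ
    have hWcyc : ∀ s, W⁻¹ * at' j (cyc e s) * W = at' j (cyc e s) ∨
        W⁻¹ * at' j (cyc e s) * W = at' j (cyc e s)⁻¹ := by
      intro s
      have e1 : pr π τ * at' j (cyc e s) * (pr π τ)⁻¹ = at' j (cyc e s) := by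
        rw [pr_conj_at', hπ, hτ, inv_one, one_mul, mul_one]
      rcases hδ with rfl | rfl
      · left
        rw [hWdef, at'_one, one_mul]
        conv_lhs => rw [← e1]
        group
      · right
        rw [negOn_single_three e hp] at hWdef
        have e2 : at' j (negOn e {s₁}) * at' j (cyc e s)⁻¹ * (at' j (negOn e {s₁}))⁻¹ =
            at' (ι := ι) j (cyc e s) := by
          rw [at'_inv, at'_mul, at'_mul]
          congr 1
          have := congrArg (·⁻¹) (negOn_conj e ({s₁} : Finset (Fin r)) (s := s)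
            (Finset.mem_singleton.2 (hs₀ s)))
          simpa [mul_assoc] using this
        have e3 : pr π τ * at' j (cyc e s)⁻¹ * (pr π τ)⁻¹ = at' j (cyc e s)⁻¹ := by
          rw [pr_conj_at', hπ, hτ, inv_one, one_mul, mul_one]
        rw [hWdef]
        calc (at' j (negOn e {s₁}) * pr π τ)⁻¹ * at' j (cyc e s) * (at' j (negOn e {s₁}) * pr π τ)
            = (pr π τ)⁻¹ * ((at' j (negOn e {s₁}))⁻¹ * at' j (cyc e s) * at' j (negOn e {s₁})) *
                pr π τ := by group
          _ = (pr π τ)⁻¹ * at' j (cyc e s)⁻¹ * pr π τ := by rw [← e2]; group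
          _ = at' j (cyc e s)⁻¹ := by
            conv_lhs => rw [← e3]
            group
    refine ⟨W, fun z hz => ?_, fun w hw => ⟨⟨G.mul_mem (G.mul_mem hW hw.1.1) (G.inv_mem hW),
      ?_⟩, fun s => ?_, fun z hz i hi => ?_⟩⟩
    · rw [hWdef, Perm.mul_apply]
      refine at'_fix (swap_fix_of hδ ?_ ?_) <;> rw [hl0] <;> intro h <;>
        exact apply_notMem_outside e _ (h ▸ hz)
    · rw [map_mul, map_mul, hw.1.2, mul_one, map_inv, mul_inv_cancel]
    · have hc : Commute w (W⁻¹ * at' j (cyc e s) * W) := by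
        rcases hWcyc s with h | h <;> rw [h]
        · exact hw.2.1 s
        · rw [← at'_inv]; exact (hw.2.1 s).inv_right
      show W * w * W⁻¹ * at' j (cyc e s) = at' j (cyc e s) * (W * w * W⁻¹)
      calc W * w * W⁻¹ * at' j (cyc e s) = W * (w * (W⁻¹ * at' j (cyc e s) * W)) * W⁻¹ := by group
        _ = W * ((W⁻¹ * at' j (cyc e s) * W) * w) * W⁻¹ := by rw [hc.eq]
        _ = at' j (cyc e s) * (W * w * W⁻¹) := by group
    · obtain ⟨z₁, rfl⟩ := W.surjective z
      rw [hWl, hδT] at hz
      rw [Perm.mul_apply, Perm.mul_apply, show W⁻¹ (W z₁) = z₁ from Equiv.symm_apply_apply _ _]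
      have hne' : π.symm i ≠ j := fun h => hi (by rw [← π.apply_symm_apply i, h, hπ])
      rw [hWdef, Perm.mul_apply, Perm.mul_apply, at'_apply_ne hi, at'_apply_ne hi, pr_apply,
        pr_apply, hw.2.2 z₁ hz _ hne']
  let R : (ι → α) → (ι → α) → Prop := fun a b => ∃ w ∈ K, w a = b
  have rs : ∀ a b, R a b → R b a := by
    rintro a b ⟨w, hw, rfl⟩; exact ⟨_, K.inv_mem hw, Equiv.symm_apply_apply _ _⟩
  have rt : ∀ a b c, R a b → R b c → R a c := by
    rintro a b c ⟨w, hw, rfl⟩ ⟨w', hw', rfl⟩; exact ⟨_, K.mul_mem hw' hw, rfl⟩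
  have inv : ∀ π τ a b, π j = j → τ j = 1 → a j ∈ outside e → R a b → R (pr π τ a) (pr π τ b) := by
    rintro π τ a b hπ hτ ha ⟨w, hw, rfl⟩
    obtain ⟨W, hW, hWK⟩ := hnorm π τ hπ hτ
    refine ⟨_, hWK w hw, ?_⟩
    rw [← hW a ha, ← hW _ (hFinv w hw a ha), Perm.mul_apply, Perm.mul_apply,
      show W⁻¹ (W a) = a from Equiv.symm_apply_apply _ _]
  obtain ⟨c, hc1, hc2⟩ := exists_avoid_two (show 3 ≤ Fintype.card α by omega) (z₀ i₀) (q z₀ i₀)
  have hstep : R (Function.update z₀ i₀ c) z₀ := by
    have h0 : R z₀ (q z₀) := ⟨q, hqK, rfl⟩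
    have := inv 1 (Function.update 1 i₀ (swap (z₀ i₀) c)) z₀ (q z₀) rfl
      (Function.update_of_ne hi₀.symm _ _) hz₀ h0
    change R (at' i₀ (swap (z₀ i₀) c) z₀) (at' i₀ (swap (z₀ i₀) c) (q z₀)) at this
    rw [at'_apply, swap_apply_left, at'_fix (swap_apply_of_ne_of_ne hne hc2.symm)] at this
    exact rt _ _ _ this (rs _ _ h0)
  have tr : ∀ a b : ι → α, a j = z₀ j → b j = z₀ j → R a b :=
    rel_spread (by omega) R rs rt (fun a _ => ⟨1, K.one_mem, rfl⟩)
      (fun π τ a b hπ hτ ha _ h => inv π τ a b hπ hτ (ha ▸ hz₀) h)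
      (show Function.update z₀ i₀ c j = z₀ j from Function.update_of_ne hi₀.symm _ _) rfl hi₀
      (by rw [Function.update_self]; exact hc1) hstep
  exact no_abelian hm K {z | z j ∈ outside e} (fun z hz => show z j ∈ outside e by rw [hz]; exact hz₀)
    hFinv (fun w₁ h1 w₂ h2 z _ => Equiv.ext_iff.1 (hab w₁ h1 w₂ h2) z) tr
    (fun τ hτ => by
      obtain ⟨W, h1, h2⟩ := hnorm 1 τ rfl hτ
      exact ⟨W, h1, h2⟩)
    (Or.inr fun w hw z _ => hcube w hw z)

/-- A centralising element maps the middle of a block into one value. -/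
theorem Hyp.block_value (hG : Hyp G) [Nontrivial ι] (hA : ¬ alternatingGroup (ι → α) ≤ G) {j : ι}
    {e : Fin r × ZMod p ↪ α} (hgood : Good e) {g : Perm (ι → α)} (hg : g ∈ G)
    (hgc : ∀ s, g * at' j (cyc e s) = at' j (cyc e s) * g) (s : Fin r) :
    ∃ c : ZMod p, ∀ z x, z j = e (s, x) → g z j = e (s, x + c) := by
  have hm := hgood.five
  obtain ⟨ρ, hρG, hρb, hρs, hρu⟩ := exists_inverter (j := j) hG hgood s
  set S := at' j ρ with hS
  set Y := g * S * g⁻¹ with hY
  have hYG : Y ∈ G := G.mul_mem (G.mul_mem hg hρG) (G.inv_mem hg)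
  have hYg : ∀ z, Y (g z) = g (S z) := fun z => by
    rw [hY, Perm.mul_apply, Perm.mul_apply, show g⁻¹ (g z) = z from g.symm_apply_apply z]
  -- on the blocks
  have hYT : ∀ z : ι → α, z j ∉ outside e → ∀ i, i ≠ j → Y z i = z i := by
    intro z hz i hi
    obtain ⟨z₀, rfl⟩ := g.surjective z
    rw [outside_iff hgc, mem_outside, not_not] at hz
    obtain ⟨⟨t, x⟩, hx⟩ := hz
    obtain ⟨y, hy⟩ := hρb t x
    have e1 : S z₀ = at' j (shift e (Pi.single t (y - x))) z₀ := by
      rw [at'_shift_eq t x y z₀ hx.symm, hS, at'_apply, ← hx, hy]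
    rw [hYg, e1, comm_single hgc, at'_apply_ne hi]
  have hYU : ∀ z : ι → α, z j ∈ outside e → ∀ i, i ≠ j → Y z i = z i := by
    intro z hz i hi
    rcases hρu with hfix | ⟨hodd, hp, hr, hU, hconj⟩
    · obtain ⟨z₀, rfl⟩ := g.surjective z
      rw [outside_iff hgc] at hz
      rw [hYg, hS, at'_fix (hfix _ hz)]
    · set q := Y * S⁻¹ with hq
      have hρT : ∀ z : ι → α, z j ∉ outside e → S⁻¹ z j ∉ outside e := by
        intro z hz hmem
        let T := (Finset.univ : Finset (Fin r × ZMod p)).map e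
        have himg : T.image ρ = T := by
          refine Finset.eq_of_subset_of_card_le (fun a ha => ?_)
            (by rw [Finset.card_image_of_injective _ ρ.injective])
          obtain ⟨a₀, ha₀, rfl⟩ := Finset.mem_image.1 ha
          obtain ⟨⟨t, x⟩, -, rfl⟩ := Finset.mem_map.1 ha₀
          obtain ⟨y, hy⟩ := hρb t x
          exact Finset.mem_map.2 ⟨_, Finset.mem_univ _, hy.symm⟩
        have : z j ∈ T.image ρ := by
          rw [himg]; exact Finset.notMem_compl.1 hz
        obtain ⟨a, ha, he⟩ := Finset.mem_image.1 this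
        rw [hS, at'_inv, at'_apply_self, ← he] at hmem
        rw [show ρ⁻¹ (ρ a) = a from ρ.symm_apply_apply a] at hmem
        exact Finset.mem_compl.1 hmem ha
      have hqc : ∀ t, q * at' j (cyc e t) = at' j (cyc e t) * q := by
        intro t
        have ht : t = s := Fin.ext (by have := t.isLt; have := s.isLt; omega)
        subst ht
        have e1 : S * at' j (cyc e t) = (at' j (cyc e t))⁻¹ * S := by
          rw [hS, at'_inv, at'_mul, at'_mul, ← hconj]
          congr 1; group
        have hg' : g⁻¹ * at' j (cyc e t) = at' j (cyc e t) * g⁻¹ :=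
          (Commute.inv_left (show Commute g (at' j (cyc e t)) from hgc t)).eq
        have hg'' : g * (at' j (cyc e t))⁻¹ = (at' j (cyc e t))⁻¹ * g :=
          (Commute.inv_right (show Commute g (at' j (cyc e t)) from hgc t)).eq
        have e2 : Y * at' j (cyc e t) = (at' j (cyc e t))⁻¹ * Y := by
          calc Y * at' j (cyc e t) = g * S * (g⁻¹ * at' j (cyc e t)) := by rw [hY]; group
            _ = g * (S * at' j (cyc e t)) * g⁻¹ := by rw [hg']; group
            _ = (g * (at' j (cyc e t))⁻¹) * S * g⁻¹ := by rw [e1]; group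
            _ = (at' j (cyc e t))⁻¹ * Y := by rw [hg'', hY]; group
        have e1' : S⁻¹ * at' j (cyc e t) = (at' j (cyc e t))⁻¹ * S⁻¹ := by
          have h' : S * (at' j (cyc e t))⁻¹ = at' j (cyc e t) * S := by
            calc S * (at' j (cyc e t))⁻¹
                = at' j (cyc e t) * ((at' j (cyc e t))⁻¹ * S) * (at' j (cyc e t))⁻¹ := by group
              _ = at' j (cyc e t) * (S * at' j (cyc e t)) * (at' j (cyc e t))⁻¹ := by rw [e1]
              _ = at' j (cyc e t) * S := by group
          calc S⁻¹ * at' j (cyc e t) = S⁻¹ * (at' j (cyc e t) * S) * S⁻¹ := by group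
            _ = (at' j (cyc e t))⁻¹ * S⁻¹ := by rw [← h']; group
        have e2' : Y * (at' j (cyc e t))⁻¹ = at' j (cyc e t) * Y := by
          calc Y * (at' j (cyc e t))⁻¹
              = at' j (cyc e t) * ((at' j (cyc e t))⁻¹ * Y) * (at' j (cyc e t))⁻¹ := by group
            _ = at' j (cyc e t) * (Y * at' j (cyc e t)) * (at' j (cyc e t))⁻¹ := by rw [e2]
            _ = at' j (cyc e t) * Y := by group
        calc q * at' j (cyc e t) = Y * (S⁻¹ * at' j (cyc e t)) := by rw [hq]; group
          _ = Y * (at' j (cyc e t))⁻¹ * S⁻¹ := by rw [e1']; group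
          _ = at' j (cyc e t) * q := by rw [e2', hq]; group
      have hqT : ∀ z : ι → α, z j ∉ outside e → ∀ i, i ≠ j → q z i = z i := by
        intro z hz i hi
        rw [hq, Perm.mul_apply, hYT _ (hρT z hz) i hi, hS, at'_inv, at'_apply_ne hi]
      have hqU := hG.outside_preserves hA hgood hodd hp hr hU (G.mul_mem hYG (G.inv_mem hρG))
        (by
          rw [hY, map_mul, map_mul, map_mul, map_inv, map_inv, mul_comm (sign g), mul_inv_cancel_right,
            mul_inv_cancel]) hqc hqT
      have e3 : Y z = q (S z) := by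
        show Y z = (Y * S⁻¹) (S z)
        exact congrArg Y (S.symm_apply_apply z).symm
      rw [e3]
      by_cases hSz : S z j ∈ outside e
      · rw [hqU _ hSz i hi, hS, at'_apply_ne hi]
      · rw [hqT _ hSz i hi, hS, at'_apply_ne hi]
  have hYall : ∀ i, i ≠ j → ∀ z, Y z i = z i := fun i hi z => by
    by_cases hz : z j ∈ outside e
    · exact hYU z hz i hi
    · exact hYT z hz i hi
  -- fixed points of `Y`
  set base : ι → α := fun _ => e (s, 0) with hbase
  obtain ⟨x₀, hx₀⟩ := (block_iff hgc s base).2 ⟨0, rfl⟩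
  have key : ∀ z : ι → α, z j = e (s, 0) → g z j = e (s, x₀) := by
    intro z hz
    have hfixed : ∀ z : ι → α, z j = e (s, 0) → Y (g z) = g z := fun z hz => by
      rw [hYg, hS, at'_fix (by rw [hz, hρs, neg_zero])]
    obtain ⟨x₁, hx₁⟩ := (block_iff hgc s z).2 ⟨0, hz⟩
    have hw : Y (Function.update (g z) j (g base j)) = Function.update (g z) j (g base j) := by
      refine rel_of_lines (fun a b => Y a = a → Y b = b) (fun a => a j = g base j) (fun o => o ≠ j)
        (fun a _ h => h) (fun a b c h h' h'' => h' (h h''))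
        (fun a o c ha ho => by rw [Function.update_of_ne (Ne.symm ho)]; exact ha)
        (fun a b k ha hb hk => by rw [not_not.1 hk, ha, hb])
        (fun a o c _ ho _ h => by rw [hG.apply_update hm hA hYG (hYall o ho), h])
        (g base) (Function.update (g z) j (g base j)) rfl (Function.update_self ..)
        (hfixed base rfl)
    obtain ⟨z', hz'⟩ := g.surjective (Function.update (g z) j (g base j))
    have hz'j : g z' j = e (s, x₀) := by rw [hz', Function.update_self, hx₀]
    obtain ⟨x', hx'⟩ := (block_iff hgc s z').1 ⟨x₀, hz'j⟩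
    have hzero : x' = 0 := by
      rw [← hz', hYg] at hw
      have h1 := congrFun (g.injective hw) j
      rw [hS, at'_apply_self, hx', hρs] at h1
      have h2 : -x' = x' := (Prod.ext_iff.1 (e.injective h1)).2
      have h3 : (2 : ZMod p) * x' = 0 := by linear_combination -h2
      rcases mul_eq_zero.1 h3 with h | h
      · exfalso
        have : p ∣ 2 := (ZMod.natCast_eq_zero_iff 2 p).1 (by exact_mod_cast h)
        exact hgood.odd ((Nat.prime_dvd_prime_iff_eq Fact.out Nat.prime_two).1 this)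
      · exact h
    subst hzero
    have e1 : g z = g (at' j (shift e (Pi.single s (x₁ - x₀))) z') := by
      rw [comm_single hgc, at'_shift_eq s x₀ x₁ _ hz'j, hz', Function.update_idem, ← hx₁,
        Function.update_eq_self]
    have h4 := congrFun (g.injective e1) j
    rw [at'_apply_self, hx', shift_apply, Pi.single_eq_same, hz, zero_add] at h4
    have h5 := (Prod.ext_iff.1 (e.injective h4)).2
    dsimp only at h5
    rw [hx₁, sub_eq_zero.1 h5.symm]
  refine ⟨x₀, fun z x hz => ?_⟩
  have e1 : at' j (shift e (Pi.single s (x - 0))) (Function.update z j (e (s, 0))) = z := by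
    rw [at'_shift_eq s 0 x (Function.update z j (e (s, 0))) (Function.update_self j _ z),
      Function.update_idem, ← hz,
      Function.update_eq_self]
  rw [← e1, comm_single hgc, at'_apply_self, key _ (Function.update_self ..), shift_apply,
    Pi.single_eq_same, sub_zero, add_comm]

/-- After a rotation, a centralising element preserves the coordinate `j` on the blocks and acts
on the others by one permutation. -/
theorem Hyp.centralizer_normal (hG : Hyp G) [Nontrivial ι] (hA : ¬ alternatingGroup (ι → α) ≤ G)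
    {j : ι} {e : Fin r × ZMod p ↪ α} (hgood : Good e) {g : Perm (ι → α)} (hg : g ∈ G)
    (hgc : ∀ s, g * at' j (cyc e s) = at' j (cyc e s) * g) :
    ∃ c : Fin r → ZMod p, ∃ σ : Perm ({i // i ≠ j} → α), at' j (shift e c) * g ∈ G ∧
      ∀ z : ι → α, z j ∉ outside e → (at' j (shift e c) * g) z j = z j ∧
        ∀ i : {i // i ≠ j}, (at' j (shift e c) * g) z i = σ (fun k => z k) i := by
  have hm := hgood.five
  choose d hd using hG.block_value hA hgood hg hgc
  have hpodd : Odd p := (Fact.out : p.Prime).odd_of_ne_two hgood.odd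
  set g' := at' j (shift e (-d)) * g with hg'def
  have hg' : g' ∈ G := G.mul_mem (hG.at'_mem j (Or.inr (sign_shift e hpodd _))) hg
  have hg'c : ∀ s, g' * at' j (cyc e s) = at' j (cyc e s) * g' := by
    intro s
    rw [hg'def, mul_assoc, hgc, ← mul_assoc, ← mul_assoc, at'_mul, at'_mul, cyc, shift_comm]
  have hj : ∀ z : ι → α, z j ∉ outside e → g' z j = z j := by
    intro z hz
    rw [mem_outside, not_not] at hz
    obtain ⟨⟨s, x⟩, hx⟩ := hz
    rw [hg'def, Perm.mul_apply, at'_apply_self, hd s z x hx.symm, shift_apply, ← hx, Pi.neg_apply,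
      add_neg_cancel_right]
  have hout := fun z => outside_iff hg'c z
  have hj' : ∀ z : ι → α, z j ∉ outside e → g'⁻¹ z j = z j := by
    intro z hz
    have e1 : g' (g'⁻¹ z) = z := g'.apply_symm_apply z
    have := hj (g'⁻¹ z) (fun h => hz (by rw [← e1]; exact (hout _).2 h))
    rw [e1] at this
    exact this.symm
  obtain ⟨u, hu⟩ : (outside e).Nonempty := Finset.card_pos.1 (by have := hgood.two_le; omega)
  have hcomm : ∀ a b c, a ∉ outside e → b ∉ outside e → c ∉ outside e → a ≠ b → b ≠ c → a ≠ c →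
      g' * at' j (cyc3 a b c) = at' j (cyc3 a b c) * g' := by
    intro a b c ha hb hc hab hbc hac
    set β := at' j (cyc3 a b c) with hβ
    have hβG : β ∈ G := hG.at'_mem j (Or.inr (sign_cyc3 hab hbc))
    have hout3 : ∀ t ∈ outside e, cyc3 a b c t = t := fun t ht =>
      cyc3_other (fun h => ha (h ▸ ht)) (fun h => hb (h ▸ ht)) fun h => hc (h ▸ ht)
    have hiff : ∀ t, cyc3 a b c t ∈ outside e ↔ t ∈ outside e := fun t => by
      constructor
      · intro h
        have := (cyc3 a b c).injective (hout3 _ h)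
        rwa [this] at h
      · intro h; rwa [hout3 t h]
    have hfix : ∀ z : ι → α, z j ∈ outside e → β z = z := fun z hz => at'_fix (hout3 _ hz)
    have h1 : g' * β * g'⁻¹ * β⁻¹ = 1 := by
      refine hG.fibre_trivial hm hA (G.mul_mem (G.mul_mem (G.mul_mem hg' hβG) (G.inv_mem hg'))
        (G.inv_mem hβG)) (l := j) (fun z => ?_) (v := u) fun z hz => ?_
      · obtain ⟨z₀, rfl⟩ := β.surjective z
        simp only [Perm.mul_apply]
        rw [show β⁻¹ (β z₀) = z₀ from β.symm_apply_apply z₀]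
        by_cases hz₀ : z₀ j ∈ outside e
        · have h' : g'⁻¹ z₀ j ∈ outside e := by
            have := hout (g'⁻¹ z₀)
            rw [show g' (g'⁻¹ z₀) = z₀ from g'.apply_symm_apply z₀] at this
            exact this.1 hz₀
          rw [hfix _ h', show g' (g'⁻¹ z₀) = z₀ from g'.apply_symm_apply z₀, hfix _ hz₀]
        · have h' := hj' z₀ hz₀
          have h'' : β (g'⁻¹ z₀) j = β z₀ j := by rw [hβ, at'_apply_self, at'_apply_self, h']
          rw [hj _ (by rw [h'', hβ, at'_apply_self, hiff]; exact hz₀), h'']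
      · have hzu : z j ∈ outside e := hz ▸ hu
        simp only [Perm.mul_apply]
        rw [show β⁻¹ z = z from Perm.inv_eq_iff_eq.2 (hfix z hzu).symm]
        have h' : g'⁻¹ z j ∈ outside e := by
          have := hout (g'⁻¹ z)
          rw [show g' (g'⁻¹ z) = z from g'.apply_symm_apply z] at this
          exact this.1 hzu
        rw [hfix _ h', show g' (g'⁻¹ z) = z from g'.apply_symm_apply z]
    rwa [mul_inv_eq_one, mul_inv_eq_iff_eq_mul] at h1
  let T := (Finset.univ : Finset (Fin r × ZMod p)).map e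
  have hT : ∀ a, a ∈ T ↔ a ∉ outside e := fun a => by simp [T, outside]
  have hT3 : 3 ≤ T.card := by
    rw [Finset.card_map, Finset.card_univ, Fintype.card_prod, Fintype.card_fin, ZMod.card]
    have := (Fact.out : p.Prime).two_le
    have h3 : 3 ≤ p := by have := hgood.odd; omega
    calc 3 ≤ 1 * p := by omega
      _ ≤ r * p := Nat.mul_le_mul_right _ hgood.pos
  set s₀ : Fin r := ⟨0, hgood.pos⟩
  set t₀ := e (s₀, 0) with ht₀
  have ht₀T : t₀ ∉ outside e := apply_notMem_outside e _
  set E := Equiv.funSplitAt j α with hE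
  let φ : ({i // i ≠ j} → α) → ({i // i ≠ j} → α) := fun w i => g' (E.symm (t₀, w)) i
  have hEj : ∀ w, E.symm (t₀, w) j = t₀ := fun w => by simp [hE, Equiv.funSplitAt, Equiv.piSplitAt]
  have hφ : Function.Injective φ := by
    intro w w' h
    have h1 : g' (E.symm (t₀, w)) = g' (E.symm (t₀, w')) := by
      funext i
      rcases eq_or_ne i j with rfl | hi
      · rw [hj _ (by rw [hEj]; exact ht₀T), hj _ (by rw [hEj]; exact ht₀T), hEj, hEj]
      · exact congrFun h ⟨i, hi⟩
    exact (Prod.ext_iff.1 (E.symm.injective (g'.injective h1))).2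
  refine ⟨-d, Equiv.ofBijective φ (Finite.injective_iff_bijective.1 hφ), hg',
    fun z hz => ⟨hj z hz, fun i => ?_⟩⟩
  show g' z i = φ (fun k => z k) i
  have hupd : E.symm (t₀, fun k => z k) = Function.update z j t₀ := by
    funext k
    rcases eq_or_ne k j with rfl | hk
    · rw [hEj, Function.update_self]
    · simp [hE, Equiv.funSplitAt, Equiv.piSplitAt, hk]
  show g' z i = g' (E.symm (t₀, fun k => z k)) i
  rw [hupd]
  by_cases h0 : z j = t₀
  · rw [← h0, Function.update_eq_self]
  obtain ⟨c, hc, hcne⟩ := Finset.exists_mem_notMem_of_card_lt_card (s := ({z j, t₀} : Finset α))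
    (t := T) (lt_of_le_of_lt Finset.card_le_two (by omega))
  simp only [Finset.mem_insert, Finset.mem_singleton, not_or] at hcne
  have := Equiv.ext_iff.1 (hcomm (z j) t₀ c hz ht₀T ((hT c).1 hc) h0 (Ne.symm hcne.2)
    (Ne.symm hcne.1)) z
  change g' (at' j (cyc3 (z j) t₀ c) z) = at' j (cyc3 (z j) t₀ c) (g' z) at this
  rw [at'_apply j _ z, cyc3_fst h0 (Ne.symm hcne.1)] at this
  rw [this, at'_apply_ne i.2]

end CfsgLib.ProdAct
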