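import Mathlib.GroupTheory.GroupAction.Primitive
import Mathlib.GroupTheory.Perm.Sign
import Mathlib.GroupTheory.Perm.Cycle.Type
import Mathlib.Tactic

/-! Product action on `ι → α`: the elements `pr π τ`, the hypothesis `Hyp` (the even part of the
wreath product lies in the group) and primitivity. -/

set_option autoImplicit false
set_option linter.style.haveILetI false

namespace CfsgLib.ProdAct

open Equiv Equiv.Perm MulAction
open scoped Pointwise

universe u v

variable {ι : Type u} {α : Type v}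

/-- The element `(π, τ)` of the wreath product in product action. -/
def pr (π : Perm ι) (τ : ι → Perm α) : Perm (ι → α) where
  toFun f i := τ i (f (π.symm i))
  invFun f i := (τ (π i)).symm (f (π i))
  left_inv f := by funext i; simp
  right_inv f := by funext i; simp

theorem pr_apply (π : Perm ι) (τ : ι → Perm α) (f : ι → α) (i : ι) :
    pr π τ f i = τ i (f (π.symm i)) := rfl

theorem pr_mul (π π' : Perm ι) (τ τ' : ι → Perm α) :
    pr π τ * pr π' τ' = pr (π * π') fun i => τ i * τ' (π.symm i) := by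
  refine Equiv.ext fun f => funext fun i => ?_
  rfl

theorem pr_one : pr (1 : Perm ι) (1 : ι → Perm α) = 1 := rfl

theorem pr_inv (π : Perm ι) (τ : ι → Perm α) :
    (pr π τ)⁻¹ = pr π⁻¹ fun i => (τ (π i))⁻¹ := by
  rw [inv_eq_iff_mul_eq_one, pr_mul, ← pr_one]
  congr 1
  · simp
  · funext i; simp

/-- Membership in the product action of the wreath product. -/
def IsProd (g : Perm (ι → α)) : Prop := ∃ π τ, g = pr π τ

theorem IsProd.mul {g h : Perm (ι → α)} (hg : IsProd g) (hh : IsProd h) : IsProd (g * h) := by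
  obtain ⟨π, τ, rfl⟩ := hg
  obtain ⟨π', τ', rfl⟩ := hh
  exact ⟨_, _, pr_mul _ _ _ _⟩

theorem IsProd.inv {g : Perm (ι → α)} (hg : IsProd g) : IsProd g⁻¹ := by
  obtain ⟨π, τ, rfl⟩ := hg
  exact ⟨_, _, pr_inv _ _⟩

theorem isProd_iff (g : Perm (ι → α)) :
    IsProd g ↔ ∃ (π : Perm ι) (τ : ι → Perm α), ∀ f i, g f i = τ i (f (π.symm i)) := by
  constructor
  · rintro ⟨π, τ, rfl⟩; exact ⟨π, τ, fun f i => rfl⟩
  · rintro ⟨π, τ, h⟩; exact ⟨π, τ, Equiv.ext fun f => funext (h f)⟩

variable (ι α) in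
/-- The wreath product in product action. -/
def prodGroup : Subgroup (Perm (ι → α)) where
  carrier := {g | IsProd g}
  one_mem' := ⟨1, 1, pr_one.symm⟩
  mul_mem' := IsProd.mul
  inv_mem' := IsProd.inv

theorem mem_prodGroup {g : Perm (ι → α)} : g ∈ prodGroup ι α ↔ IsProd g := Iff.rfl

section At

variable [DecidableEq ι]

/-- `ρ` in the coordinate `i`. -/
def at' (i : ι) (ρ : Perm α) : Perm (ι → α) := pr 1 (Function.update 1 i ρ)

theorem at'_apply (i : ι) (ρ : Perm α) (f : ι → α) :
    at' i ρ f = Function.update f i (ρ (f i)) := by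
  funext l
  rcases eq_or_ne l i with rfl | h
  · simp [at', pr_apply, Perm.one_def]
  · simp [at', pr_apply, Perm.one_def, Function.update_of_ne h]

theorem at'_apply_ne {i l : ι} (h : l ≠ i) (ρ : Perm α) (f : ι → α) : at' i ρ f l = f l := by
  rw [at'_apply, Function.update_of_ne h]

theorem at'_apply_self (i : ι) (ρ : Perm α) (f : ι → α) : at' i ρ f i = ρ (f i) := by
  rw [at'_apply, Function.update_self]

theorem at'_fix {i : ι} {ρ : Perm α} {f : ι → α} (h : ρ (f i) = f i) : at' i ρ f = f := by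
  rw [at'_apply, h, Function.update_eq_self]

theorem at'_mul (i : ι) (ρ ρ' : Perm α) : at' i ρ * at' i ρ' = at' i (ρ * ρ') := by
  refine Equiv.ext fun f => ?_
  simp [Perm.mul_apply, at'_apply]

theorem at'_one (i : ι) : at' i (1 : Perm α) = 1 := Equiv.ext fun f => at'_fix rfl

/-- `at' i` as a homomorphism. -/
def atHom (i : ι) : Perm α →* Perm (ι → α) where
  toFun := at' i
  map_one' := at'_one i
  map_mul' ρ ρ' := (at'_mul i ρ ρ').symm

theorem at'_inv (i : ι) (ρ : Perm α) : (at' i ρ)⁻¹ = at' i ρ⁻¹ := (map_inv (atHom i) ρ).symm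

theorem at'_pow (i : ι) (ρ : Perm α) (n : ℕ) : at' i ρ ^ n = at' i (ρ ^ n) :=
  (map_pow (atHom i) ρ n).symm

theorem isProd_at' (i : ι) (ρ : Perm α) : IsProd (at' i ρ) := ⟨_, _, rfl⟩

theorem at'_injective [Nonempty α] (i : ι) : Function.Injective (at' (ι := ι) (α := α) i) := by
  intro ρ ρ' h
  refine Equiv.ext fun c => ?_
  have := congrFun (Equiv.ext_iff.1 h (fun _ => c)) i
  simpa [at'_apply_self] using this

theorem pr_conj_at' (π : Perm ι) (τ : ι → Perm α) (i : ι) (ρ : Perm α) :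
    pr π τ * at' i ρ * (pr π τ)⁻¹ = at' (π i) (τ (π i) * ρ * (τ (π i))⁻¹) := by
  rw [mul_inv_eq_iff_eq_mul]
  refine Equiv.ext fun f => funext fun l => ?_
  rw [Perm.mul_apply, Perm.mul_apply, pr_apply]
  rcases eq_or_ne l (π i) with rfl | h
  · simp [at'_apply_self, pr_apply]
  · rw [at'_apply_ne h, pr_apply, at'_apply_ne]
    exact fun e => h (by rw [← e, Equiv.apply_symm_apply])

end At

section Hyp

variable [Fintype ι] [DecidableEq ι] [Fintype α] [DecidableEq α]

/-- The even part of the wreath product lies in `G`; for an even number of values the whole base. -/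
structure Hyp (G : Subgroup (Perm (ι → α))) : Prop where
  pair : ∀ τ : ι → Perm α, (Even (Fintype.card α) ∨ ∏ i, sign (τ i) = 1) → pr 1 τ ∈ G
  coord : ∀ π : Perm ι, ∃ τ : ι → Perm α, pr π τ ∈ G

variable {G : Subgroup (Perm (ι → α))}

theorem Hyp.at'_mem (hG : Hyp G) (i : ι) {ρ : Perm α}
    (h : Even (Fintype.card α) ∨ sign ρ = 1) : at' i ρ ∈ G := by
  refine hG.pair _ (h.imp_right fun h => ?_)
  refine Finset.prod_eq_one fun l _ => ?_
  rcases eq_or_ne l i with rfl | hl
  · rw [Function.update_self, h]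
  · rw [Function.update_of_ne hl, Pi.one_apply, map_one]

theorem Hyp.cycle_mem (hG : Hyp G) (i : ι) {a b c : α} (hab : a ≠ b) (hbc : b ≠ c) :
    at' i (swap a b * swap b c) ∈ G := by
  refine hG.at'_mem i (Or.inr ?_)
  rw [map_mul, sign_swap hab, sign_swap hbc]
  rfl

/-- Any element of the wreath product can be corrected into `G` by one transposition. -/
theorem Hyp.adjust (hG : Hyp G) (π : Perm ι) (τ : ι → Perm α) (l : ι) {a b : α} (hab : a ≠ b) :
    ∃ δ : Perm α, (δ = 1 ∨ δ = swap a b) ∧ pr π (Function.update τ l (δ * τ l)) ∈ G := by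
  obtain ⟨τ₀, h₀⟩ := hG.coord π
  have key : ∀ σ : ι → Perm α, ∏ i, sign (σ i * (τ₀ i)⁻¹) = 1 → pr π σ ∈ G := by
    intro σ hσ
    have := G.mul_mem (hG.pair (fun i => σ i * (τ₀ i)⁻¹) (Or.inr hσ)) h₀
    rw [pr_mul, one_mul] at this
    have e : ∀ i, (Equiv.symm (1 : Perm ι)) i = i := fun i => rfl
    simpa [e] using this
  by_cases h : ∏ i, sign (τ i * (τ₀ i)⁻¹) = 1
  · refine ⟨1, Or.inl rfl, key _ ?_⟩
    simpa using h
  · refine ⟨swap a b, Or.inr rfl, key _ ?_⟩
    have h' := (Int.units_eq_one_or (∏ i, sign (τ i * (τ₀ i)⁻¹))).resolve_left h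
    rw [← Finset.prod_erase_mul _ _ (Finset.mem_univ l)] at h' ⊢
    rw [Function.update_self, mul_assoc (swap a b), map_mul, sign_swap hab]
    rw [Finset.prod_congr rfl (g := fun i => sign (τ i * (τ₀ i)⁻¹)) fun i hi => by
      rw [Function.update_of_ne (Finset.ne_of_mem_erase hi)]]
    rw [mul_left_comm, h']
    rfl

theorem Hyp.lift (hG : Hyp G) (π : Perm ι) (τ : ι → Perm α) (l : ι) {a b : α} (hab : a ≠ b) :
    ∃ δ : Perm α, (δ = 1 ∨ δ = swap a b) ∧ at' l δ * pr π τ ∈ G := by
  obtain ⟨δ, hδ, h⟩ := hG.adjust π τ l hab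
  refine ⟨δ, hδ, ?_⟩
  rwa [at', pr_mul, one_mul, show (fun i => Function.update (1 : ι → Perm α) l δ i *
    τ ((1 : Perm ι).symm i)) = Function.update τ l (δ * τ l) from ?_]
  funext i
  rcases eq_or_ne i l with rfl | hi
  · simp only [Function.update_self]; rfl
  · simp only [Function.update_of_ne hi, Pi.one_apply, one_mul]; rfl

end Hyp

end CfsgLib.ProdAct
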