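import Cfsg.Agent.Perm.ProdAct.Tools

/-! An abelian group permuting a fibre transitively and normalised by the base group cannot exist. -/

set_option autoImplicit false
set_option linter.unusedSectionVars false

namespace CfsgLib.ProdAct

open Equiv Equiv.Perm

universe u v

variable {ι : Type u} {α : Type v} [Fintype ι] [DecidableEq ι] [Fintype α] [DecidableEq α]

theorem no_abelian (hm : 5 ≤ Fintype.card α) [Nontrivial ι] {l : ι} {v : α}
    (K : Subgroup (Perm (ι → α))) (F : Set (ι → α)) (hv : ∀ z : ι → α, z l = v → z ∈ F)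
    (hK : ∀ w ∈ K, ∀ z ∈ F, w z ∈ F)
    (comm : ∀ w₁ ∈ K, ∀ w₂ ∈ K, ∀ z ∈ F, w₁ (w₂ z) = w₂ (w₁ z))
    (tr : ∀ a b : ι → α, a l = v → b l = v → ∃ w ∈ K, w a = b)
    (norm : ∀ τ : ι → Perm α, τ l = 1 →
      ∃ W : Perm (ι → α), (∀ z ∈ F, W z = pr 1 τ z) ∧ ∀ w ∈ K, W * w * W⁻¹ ∈ K)
    (extra : (∀ z ∈ F, z l = v) ∨ ∀ w ∈ K, ∀ z ∈ F, w (w (w z)) = z) : False := by
  obtain ⟨i, hi⟩ := exists_ne l
  set p : ι → α := fun _ => v with hp
  obtain ⟨c, hc, -⟩ := exists_avoid_two (show 3 ≤ Fintype.card α by omega) v v
  set q := Function.update p i c with hq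
  have hql : q l = v := by rw [hq, Function.update_of_ne hi.symm]
  obtain ⟨a, ha, hap⟩ := tr p q rfl hql
  have agree : ∀ b₁ ∈ K, ∀ b₂ ∈ K, ∀ z₀ z : ι → α, z₀ l = v → z l = v → b₁ z₀ = b₂ z₀ →
      b₁ z = b₂ z := by
    intro b₁ h1 b₂ h2 z₀ z hz₀ hz h
    obtain ⟨b, hb, rfl⟩ := tr z₀ z hz₀ hz
    rw [comm b₁ h1 b hb _ (hv _ hz₀), comm b₂ h2 b hb _ (hv _ hz₀), h]
  -- elements fixing `p` and `q` commute with `a`
  have cov : ∀ τ : ι → Perm α, τ l = 1 → (∀ s, τ s v = v) → τ i c = c → ∀ z : ι → α, z l = v →
      a (pr 1 τ z) = pr 1 τ (a z) := by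
    intro τ hτl hτv hτc z hz
    obtain ⟨W, hW, hWK⟩ := norm τ hτl
    have hWp : W p = p := by
      rw [hW p (hv p rfl)]; exact funext fun s => hτv s
    have hWq : W q = q := by
      rw [hW q (hv q hql)]
      funext s
      rw [pr_apply]
      rcases eq_or_ne s i with rfl | hs
      · show τ s (q s) = q s
        rw [hq, Function.update_self]; exact hτc
      · show τ s (q s) = q s
        rw [hq, Function.update_of_ne hs]; exact hτv s
    have e1 : (W * a * W⁻¹) p = a p := by
      have : W⁻¹ p = p := Perm.inv_eq_iff_eq.2 hWp.symm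
      rw [Perm.mul_apply, Perm.mul_apply, this, hap, hWq]
    have hzl : pr 1 τ z l = v := by
      show τ l (z l) = v
      rw [hτl, hz]; rfl
    have := agree _ (hWK a ha) a ha p (pr 1 τ z) rfl hzl e1
    rw [← this, ← hW z (hv z hz), ← hW (a z) (hK a ha z (hv z hz))]
    simp
  have coord : ∀ z : ι → α, (∀ s, s ≠ i → z s = v) → ∀ o, o ≠ i → o ≠ l → a z o = v := by
    intro z hz o hoi hol
    by_contra he
    obtain ⟨e', he1, he2⟩ := exists_avoid_two (show 3 ≤ Fintype.card α by omega) (a z o) v
    set τ : ι → Perm α := Function.update 1 o (swap (a z o) e') with hτ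
    have hs : ∀ s, τ s v = v := fun s => by
      rcases eq_or_ne s o with rfl | hs
      · rw [hτ, Function.update_self, swap_apply_of_ne_of_ne (Ne.symm he) he2.symm]
      · rw [hτ, Function.update_of_ne hs]; rfl
    have := cov τ (Function.update_of_ne (Ne.symm hol) _ _) hs
      (by rw [hτ, Function.update_of_ne (Ne.symm hoi)]; rfl) z (hz l hi.symm)
    have hzz : pr 1 τ z = z := at'_fix (by
      rw [hz o hoi]; exact swap_apply_of_ne_of_ne (Ne.symm he) he2.symm)
    rw [hzz] at this
    have h2 := congrFun this o
    rw [pr_apply, hτ, Function.update_self] at h2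
    exact he1 ((swap_apply_left _ _).symm.trans h2.symm)
  have coordi : ∀ d : α, ∀ z : ι → α, z = Function.update p i d →
      a z i = v ∨ a z i = c ∨ a z i = d := by
    intro d z hz
    by_contra hn
    simp only [not_or] at hn
    obtain ⟨h1, h2, h3⟩ := hn
    obtain ⟨e', he'⟩ := exists_avoid {a z i, v, c, d}
      (lt_of_le_of_lt Finset.card_le_four (by omega))
    simp only [Finset.mem_insert, Finset.mem_singleton, not_or] at he'
    obtain ⟨g1, g2, g3, g4⟩ := he'
    set τ : ι → Perm α := Function.update 1 i (swap (a z i) e') with hτ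
    have hs : ∀ s, τ s v = v := fun s => by
      rcases eq_or_ne s i with rfl | hs
      · rw [hτ, Function.update_self, swap_apply_of_ne_of_ne (Ne.symm h1) (Ne.symm g2)]
      · rw [hτ, Function.update_of_ne hs]; rfl
    have := cov τ (Function.update_of_ne hi.symm _ _) hs
      (by rw [hτ, Function.update_self, swap_apply_of_ne_of_ne (Ne.symm h2) (Ne.symm g3)]) z
      (by rw [hz, Function.update_of_ne hi.symm])
    have hzz : pr 1 τ z = z := at'_fix (by
      rw [show z i = d by rw [hz, Function.update_self]]
      exact swap_apply_of_ne_of_ne (Ne.symm h3) (Ne.symm g4))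
    rw [hzz] at this
    have h4 := congrFun this i
    rw [pr_apply, hτ, Function.update_self] at h4
    exact g1 ((swap_apply_left _ _).symm.trans h4.symm)
  rcases extra with hF | h3
  · have key : ∀ d, d ≠ v → d ≠ c → a (Function.update p i d) = p := by
      intro d hdv hdc
      set z := Function.update p i d with hz
      have hzl : z l = v := by rw [hz, Function.update_of_ne hi.symm]
      have hazl : a z l = v := hF _ (hK a ha z (hv z hzl))
      have eq : ∀ e, a z i = e → a z = Function.update p i e := by
        intro e he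
        funext s
        rcases eq_or_ne s i with rfl | hs
        · rw [he, Function.update_self]
        · rw [Function.update_of_ne hs]
          rcases eq_or_ne s l with rfl | hsl
          · exact hazl
          · exact coord z (fun t ht => by rw [hz, Function.update_of_ne ht]) s hs hsl
      rcases coordi d z hz with h | h | h
      · rw [eq v h]; exact Function.update_eq_self i p
      · have := a.injective ((eq c h).trans hap.symm)
        have := congrFun this i
        rw [hz, Function.update_self] at this
        exact absurd this hdv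
      · have := agree a ha 1 K.one_mem z p hzl rfl (eq d h)
        rw [hap] at this
        have := congrFun this i
        rw [hq, Function.update_self] at this
        exact absurd this hc
    obtain ⟨d, hd1, hd2⟩ := exists_avoid_two (show 3 ≤ Fintype.card α by omega) v c
    obtain ⟨d', hd1', hd2', hd3'⟩ := exists_avoid_three (show 4 ≤ Fintype.card α by omega) v c d
    have := congrFun (a.injective ((key d' hd1' hd2').trans (key d hd1 hd2).symm)) i
    rw [Function.update_self, Function.update_self] at this
    exact hd3' this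
  · set τ : ι → Perm α := Function.update 1 i (swap v c) with hτ
    obtain ⟨W, hW, hWK⟩ := norm τ (Function.update_of_ne hi.symm _ _)
    have hWp : W p = q := by
      rw [hW p (hv p rfl)]
      show at' i (swap v c) p = q
      rw [at'_apply]; simp [hq, hp]
    have hWq : W q = p := by
      rw [hW q (hv q hql)]
      show at' i (swap v c) q = p
      rw [at'_apply, hq, Function.update_self, swap_apply_right, Function.update_idem]
      exact Function.update_eq_self i p
    have i1 : W⁻¹ q = p := Perm.inv_eq_iff_eq.2 hWp.symm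
    have i2 : W⁻¹ p = q := Perm.inv_eq_iff_eq.2 hWq.symm
    have e1 : (W * a * W⁻¹) q = (a * a) q := by
      rw [Perm.mul_apply, Perm.mul_apply, i1, hap, hWq, Perm.mul_apply, ← hap]
      exact (h3 a ha p (hv p rfl)).symm
    have e2 := agree _ (hWK a ha) _ (K.mul_mem ha ha) q p hql rfl e1
    rw [Perm.mul_apply, Perm.mul_apply, i2, Perm.mul_apply, hap, hW _ (hK a ha q (hv q hql))] at e2
    have e3 : swap v c (a q i) = a q i := by
      have := congrFun e2 i
      rwa [pr_apply, hτ, Function.update_self] at this
    rcases coordi c q hq with h | h | h <;> rw [h] at e3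
    · rw [swap_apply_left] at e3; exact hc e3
    · rw [swap_apply_right] at e3; exact hc e3.symm
    · rw [swap_apply_right] at e3; exact hc e3.symm

end CfsgLib.ProdAct
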