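import Cfsg.Agent.Perm.ProdAct.Prim
import Cfsg.Agent.Perm.ProdAct.Regular
import Cfsg.Agent.Perm.MarggraffAlt

/-! An element preserving the fibres of a coordinate and fixing one of them pointwise is trivial. -/

set_option autoImplicit false
set_option linter.unusedSectionVars false

namespace CfsgLib.ProdAct

open Equiv Equiv.Perm MulAction

universe u v

variable {ι : Type u} {α : Type v} [Fintype ι] [DecidableEq ι] [Fintype α] [DecidableEq α]
  {G : Subgroup (Perm (ι → α))}

/-- The points with `l`-th coordinate in `U`. -/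
def region (l : ι) (U : Finset α) : Finset (ι → α) := Finset.univ.filter fun z => z l ∈ U

theorem mem_region {l : ι} {U : Finset α} {z : ι → α} : z ∈ region l U ↔ z l ∈ U := by
  simp [region]

theorem card_region (l : ι) (U : Finset α) :
    (region l U).card = U.card * Fintype.card α ^ (Fintype.card ι - 1) := by
  have e : region l U = Fintype.piFinset (Function.update (fun _ => (Finset.univ : Finset α)) l U) := by
    ext z
    simp only [mem_region, Fintype.mem_piFinset]
    constructor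
    · intro h s
      rcases eq_or_ne s l with rfl | hs
      · rwa [Function.update_self]
      · rw [Function.update_of_ne hs]; exact Finset.mem_univ _
    · intro h; simpa using h l
  rw [e, Fintype.card_piFinset, ← Finset.mul_prod_erase _ _ (Finset.mem_univ l), Function.update_self]
  congr 1
  rw [Finset.prod_congr rfl (g := fun _ => Fintype.card α) fun s hs => by
    rw [Function.update_of_ne (Finset.ne_of_mem_erase hs), Finset.card_univ], Finset.prod_const,
    Finset.card_erase_of_mem (Finset.mem_univ l), Finset.card_univ]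

theorem card_points (l : ι) :
    Fintype.card (ι → α) = Fintype.card α * Fintype.card α ^ (Fintype.card ι - 1) := by
  have := Fintype.card_pos_iff.2 ⟨l⟩
  rw [Fintype.card_fun, ← pow_succ', Nat.sub_add_cancel this]

theorem Hyp.giant_of_small (hG : Hyp G) (hm : 5 ≤ Fintype.card α) [Nontrivial ι]
    (Γ : Finset (ι → α)) (h1 : 1 < Γ.card) (h2 : 2 * Γ.card < Fintype.card (ι → α))
    (htr : ∀ p ∈ Γ, ∀ q ∈ Γ, ∃ g ∈ G, (∀ z ∉ Γ, g z = z) ∧ g p = q) :
    alternatingGroup (ι → α) ≤ G := by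
  intro σ hσ
  obtain ⟨g, rfl⟩ := CfsgLib.MarggraffAlt.alternatingGroup_le (G := G) (hG.isPreprimitive hm) Γ h1 h2
    (fun p hp q hq => by
      obtain ⟨g, hg, h1, h2⟩ := htr p hp q hq
      exact ⟨⟨g, hg⟩, h1, h2⟩) hσ
  rw [show MulAction.toPermHom G (ι → α) g = (g : Perm (ι → α)) from Equiv.ext fun z => rfl]
  exact g.2

/-- Two values away from `v` on the same side of `V`. -/
theorem exists_same_side (hm : 5 ≤ Fintype.card α) (V : Finset α) {v : α} (hv : v ∈ V) :
    ∃ a b : α, a ≠ b ∧ a ≠ v ∧ b ≠ v ∧ (a ∈ V ↔ b ∈ V) := by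
  by_cases h : 3 ≤ V.card
  · obtain ⟨a, b, ha, hb, hab⟩ := Finset.one_lt_card_iff.1
      (show 1 < (V.erase v).card by rw [Finset.card_erase_of_mem hv]; omega)
    rw [Finset.mem_erase] at ha hb
    exact ⟨a, b, hab, ha.1, hb.1, iff_of_true ha.2 hb.2⟩
  · obtain ⟨a, b, ha, hb, hab⟩ := Finset.one_lt_card_iff.1
      (show 1 < Vᶜ.card by rw [Finset.card_compl]; omega)
    rw [Finset.mem_compl] at ha hb
    exact ⟨a, b, hab, fun e => ha (e ▸ hv), fun e => hb (e ▸ hv), iff_of_false ha hb⟩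

theorem swap_mem_iff {a b : α} {V : Finset α} (h : a ∈ V ↔ b ∈ V) {δ : Perm α}
    (hδ : δ = 1 ∨ δ = swap a b) (x : α) : δ x ∈ V ↔ x ∈ V := by
  rcases hδ with rfl | rfl
  · rfl
  · rcases eq_or_ne x a with rfl | ha
    · rw [swap_apply_left]; exact h.symm
    · rcases eq_or_ne x b with rfl | hb
      · rw [swap_apply_right]; exact h
      · rw [swap_apply_of_ne_of_ne ha hb]

theorem swap_fix_of {a b x : α} {δ : Perm α} (hδ : δ = 1 ∨ δ = swap a b) (ha : x ≠ a) (hb : x ≠ b) :
    δ x = x := by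
  rcases hδ with rfl | rfl
  · rfl
  · exact swap_apply_of_ne_of_ne ha hb

theorem Hyp.fibre_trivial (hG : Hyp G) (hm : 5 ≤ Fintype.card α) [Nontrivial ι]
    (hA : ¬ alternatingGroup (ι → α) ≤ G) {y : Perm (ι → α)} (hy : y ∈ G) {l : ι}
    (hl : ∀ z, y z l = z l) {v : α} (hv : ∀ z : ι → α, z l = v → y z = z) : y = 1 := by
  suffices H : ∀ n, ∀ V : Finset α, V.card = n → V.card < Fintype.card α → ∀ y ∈ G,
      (∀ z, y z l = z l) → (∀ z : ι → α, z l ∉ V → y z = z) → y = 1 by
    refine H _ (Finset.univ.erase v) rfl ?_ y hy hl fun z hz => hv z ?_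
    · rw [Finset.card_erase_of_mem (Finset.mem_univ v), Finset.card_univ]; omega
    · simpa using hz
  intro n
  induction n using Nat.strong_induction_on with
  | h n ih =>
  intro V hn hlt y hy hl hV
  by_contra hy1
  let Φ : Subgroup (Perm (ι → α)) :=
    { carrier := {w | w ∈ G ∧ (∀ z, w z l = z l) ∧ ∀ z : ι → α, z l ∉ V → w z = z}
      one_mem' := ⟨G.one_mem, fun z => rfl, fun z _ => rfl⟩
      mul_mem' := fun {a b} ha hb => ⟨G.mul_mem ha.1 hb.1,
        fun z => by rw [Perm.mul_apply, ha.2.1, hb.2.1],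
        fun z hz => by rw [Perm.mul_apply, hb.2.2 z hz, ha.2.2 z hz]⟩
      inv_mem' := fun {a} ha => ⟨G.inv_mem ha.1, fun z => by
          have := ha.2.1 (a⁻¹ z)
          rw [show a (a⁻¹ z) = z from a.apply_symm_apply z] at this
          exact this.symm,
        fun z hz => Perm.inv_eq_iff_eq.2 (ha.2.2 z hz).symm⟩ }
  have hsmall : ∀ w ∈ Φ, ∀ v ∈ V, (∀ z : ι → α, z l = v → w z = z) → w = 1 := by
    intro w hw v hv hwv
    have hc := Finset.card_erase_of_mem hv
    have := Finset.card_pos.2 ⟨v, hv⟩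
    refine ih (V.erase v).card (by omega) (V.erase v) rfl (by omega) w hw.1 hw.2.1 fun z hz => ?_
    by_cases h : z l = v
    · exact hwv z h
    · exact hw.2.2 z fun h' => hz (Finset.mem_erase.2 ⟨h, h'⟩)
  have hyΦ : y ∈ Φ := ⟨hy, hl, hV⟩
  -- the normalising elements
  have hnorm : ∀ v ∈ V, ∀ π : Perm ι, π l = l → ∀ τ : ι → Perm α, τ l = 1 →
      ∃ W : Perm (ι → α), (∀ z : ι → α, z l = v → W z = pr π τ z) ∧ ∀ w ∈ Φ, W * w * W⁻¹ ∈ Φ := by
    intro v hv π hπ τ hτ
    obtain ⟨a, b, hab, hav, hbv, hV'⟩ := exists_same_side hm V hv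
    obtain ⟨δ, hδ, hW⟩ := hG.lift π τ l hab
    have hl0 : ∀ z, pr π τ z l = z l := fun z => by
      have : π.symm l = l := π.injective (by rw [π.apply_symm_apply, hπ])
      rw [pr_apply, hτ, this]; rfl
    have hWl : ∀ z, (at' l δ * pr π τ) z l = δ (z l) := fun z => by
      rw [Perm.mul_apply, at'_apply_self, hl0]
    refine ⟨_, fun z hz => ?_, fun w hw => ⟨G.mul_mem (G.mul_mem hW hw.1) (G.inv_mem hW), ?_, ?_⟩⟩
    · rw [Perm.mul_apply]
      exact at'_fix (by rw [hl0, hz]; exact swap_fix_of hδ hav.symm hbv.symm)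
    · intro z
      obtain ⟨z₀, rfl⟩ := (at' l δ * pr π τ).surjective z
      rw [Perm.mul_apply _ (at' l δ * pr π τ)⁻¹, Perm.mul_apply,
        show (at' l δ * pr π τ)⁻¹ ((at' l δ * pr π τ) z₀) = z₀ from Equiv.symm_apply_apply _ _,
        hWl, hWl, hw.2.1]
    · intro z hz
      obtain ⟨z₀, rfl⟩ := (at' l δ * pr π τ).surjective z
      rw [hWl, swap_mem_iff hV' hδ] at hz
      rw [Perm.mul_apply _ (at' l δ * pr π τ)⁻¹, Perm.mul_apply,
        show (at' l δ * pr π τ)⁻¹ ((at' l δ * pr π τ) z₀) = z₀ from Equiv.symm_apply_apply _ _,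
        hw.2.2 z₀ hz]
  -- transitivity on the fibres over `V`
  have htr : ∀ v ∈ V, ∀ a b : ι → α, a l = v → b l = v → ∃ w ∈ Φ, w a = b := by
    intro v hv
    obtain ⟨p, hp, hpy⟩ : ∃ p : ι → α, p l = v ∧ y p ≠ p := by
      by_contra hn
      push Not at hn
      exact hy1 (hsmall y hyΦ v hv hn)
    obtain ⟨i, hi⟩ := Function.ne_iff.1 hpy
    have hil : i ≠ l := fun e => hi (by rw [e, hl])
    refine rel_spread (by omega) (fun a b => ∃ w ∈ Φ, w a = b) ?_ ?_ ?_ ?_ hp
      (by rw [hl, hp]) hil (Ne.symm hi) ⟨y, hyΦ, rfl⟩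
    · rintro a b ⟨w, hw, rfl⟩; exact ⟨_, Φ.inv_mem hw, Equiv.symm_apply_apply _ _⟩
    · rintro a b c ⟨w, hw, rfl⟩ ⟨w', hw', rfl⟩; exact ⟨_, Φ.mul_mem hw' hw, rfl⟩
    · exact fun a _ => ⟨1, Φ.one_mem, rfl⟩
    · rintro π τ a b hπ hτ ha hb ⟨w, hw, rfl⟩
      obtain ⟨W, hW, hWΦ⟩ := hnorm v hv π hπ τ hτ
      refine ⟨_, hWΦ w hw, ?_⟩
      rw [← hW a ha, ← hW (w a) hb, Perm.mul_apply, Perm.mul_apply,
        show W⁻¹ (W a) = a from Equiv.symm_apply_apply _ _]
  have hne : V.Nonempty := by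
    by_contra h
    rw [Finset.not_nonempty_iff_eq_empty] at h
    exact hy1 (Equiv.ext fun z => hV z (by simp [h]))
  obtain ⟨v, hv⟩ := hne
  by_cases hc : V.card = 1
  · refine hA (hG.giant_of_small hm (region l V) ?_ ?_ fun p hp q hq => ?_)
    · rw [card_region, hc, one_mul]
      exact Nat.one_lt_pow (by have := Fintype.one_lt_card (α := ι); omega) (by omega)
    · rw [card_region, hc, one_mul, card_points l]
      exact Nat.mul_lt_mul_of_pos_right (by omega) (Nat.pow_pos (by omega))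
    · obtain ⟨x, rfl⟩ := Finset.card_eq_one.1 hc
      rw [mem_region, Finset.mem_singleton] at hp hq
      obtain ⟨w, hw, hwp⟩ := htr x (Finset.mem_singleton_self x) p q hp hq
      exact ⟨w, hw.1, fun z hz => hw.2.2 z (mt mem_region.2 hz), hwp⟩
  obtain ⟨w₀, hw₀, hwv⟩ := Finset.exists_mem_ne (show 1 < V.card by
    have := Finset.card_pos.2 ⟨v, hv⟩; omega) v
  obtain ⟨u, hu⟩ := exists_avoid V hlt
  obtain ⟨x, hx1, hx2, hx3⟩ := exists_avoid_three (show 4 ≤ Fintype.card α by omega) v w₀ u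
  have hwu : w₀ ≠ u := fun e => hu (e ▸ hw₀)
  have hvu : v ≠ u := fun e => hu (e ▸ hv)
  set c := at' l (cyc3 w₀ u x) with hcdef
  have hcG : c ∈ G := hG.at'_mem l (Or.inr (sign_cyc3 hwu hx3.symm))
  have hcfix : ∀ z : ι → α, z l = v → c z = z := fun z hz =>
    at'_fix (by rw [hz]; exact cyc3_other hwv.symm hvu hx1.symm)
  have hcomm : ∀ w₁ ∈ Φ, ∀ w₂ ∈ Φ, ∀ z : ι → α, z l = v → w₁ (w₂ z) = w₂ (w₁ z) := by
    intro w₁ h1 w₂ h2
    have hcl : ∀ z, c z l = cyc3 w₀ u x (z l) := fun z => at'_apply_self _ _ _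
    set w' := c * w₂ * c⁻¹ with hw'
    have h'l : ∀ z, w' z l = z l := fun z => by
      obtain ⟨z₀, rfl⟩ := c.surjective z
      rw [hw', Perm.mul_apply, Perm.mul_apply, show c⁻¹ (c z₀) = z₀ from Equiv.symm_apply_apply _ _,
        hcl, hcl, h2.2.1]
    have h'fix : ∀ z₀ : ι → α, z₀ l ∉ V → w' (c z₀) = c z₀ := fun z₀ hz => by
      rw [hw', Perm.mul_apply, Perm.mul_apply, show c⁻¹ (c z₀) = z₀ from Equiv.symm_apply_apply _ _,
        h2.2.2 z₀ hz]
    have h'inv : ∀ z, w'⁻¹ z l = z l := fun z => by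
      have := h'l (w'⁻¹ z)
      rw [show w' (w'⁻¹ z) = z from Equiv.apply_symm_apply _ _] at this
      exact this.symm
    have h1inv : ∀ z, w₁⁻¹ z l = z l := fun z => (Φ.inv_mem h1).2.1 z
    -- the commutator lives over fewer values
    set W := V.filter fun t => (cyc3 w₀ u x).symm t ∈ V with hW
    have hWsub : W ⊂ V := by
      refine Finset.ssubset_iff_of_subset (Finset.filter_subset _ _) |>.2 ?_
      by_cases hxV : x ∈ V
      · refine ⟨x, hxV, fun h => hu ?_⟩
        have := (Finset.mem_filter.1 h).2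
        rwa [(Equiv.symm_apply_eq _).2 (cyc3_snd hx2.symm hx3.symm).symm] at this
      · refine ⟨w₀, hw₀, fun h => hxV ?_⟩
        have := (Finset.mem_filter.1 h).2
        have e : cyc3 w₀ u x x = w₀ := by simp [cyc3, Ne.symm hx2, hx3.symm]
        rwa [(Equiv.symm_apply_eq _).2 e.symm] at this
    have hK : w₁ * w' * w₁⁻¹ * w'⁻¹ = 1 := by
      refine ih W.card (hn ▸ Finset.card_lt_card hWsub) W rfl
        ((Finset.card_lt_card hWsub).trans hlt) _ ?_ (fun z => ?_) (fun z hz => ?_)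
      · exact G.mul_mem (G.mul_mem (G.mul_mem h1.1 (G.mul_mem (G.mul_mem hcG h2.1) (G.inv_mem hcG)))
          (G.inv_mem h1.1)) (G.inv_mem (G.mul_mem (G.mul_mem hcG h2.1) (G.inv_mem hcG)))
      · simp only [Perm.mul_apply]
        rw [h1.2.1, h'l, h1inv, h'inv]
      · simp only [Perm.mul_apply]
        rw [hW, Finset.mem_filter, not_and] at hz
        have hfx : ∀ t : ι → α, (cyc3 w₀ u x).symm (t l) ∉ V → w' t = t := by
          intro t ht
          obtain ⟨t₀, rfl⟩ := c.surjective t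
          rw [hcl, Equiv.symm_apply_apply] at ht
          exact h'fix t₀ ht
        have hfix1 : ∀ t : ι → α, t l ∉ V → w₁ t = t ∧ w₁⁻¹ t = t := fun t ht =>
          ⟨h1.2.2 t ht, (Φ.inv_mem h1).2.2 t ht⟩
        by_cases hzV : z l ∈ V
        · have hz' := hz hzV
          have e1 : w'⁻¹ z = z := Perm.inv_eq_iff_eq.2 (hfx z hz').symm
          rw [e1, hfx _ (by rw [h1inv]; exact hz'), show w₁ (w₁⁻¹ z) = z from Equiv.apply_symm_apply _ _]
        · rw [(hfix1 _ (by rw [h'inv]; exact hzV)).2,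
            show w' (w'⁻¹ z) = z from Equiv.apply_symm_apply _ _, (hfix1 z hzV).1]
    intro z hz
    have e : w₁ * w' = w' * w₁ := by
      rw [mul_inv_eq_one, mul_inv_eq_iff_eq_mul] at hK; exact hK
    have hw'v : ∀ t : ι → α, t l = v → w' t = w₂ t := fun t ht => by
      rw [hw', Perm.mul_apply, Perm.mul_apply,
        show c⁻¹ t = t from Perm.inv_eq_iff_eq.2 (hcfix t ht).symm,
        hcfix _ (by rw [h2.2.1, ht])]
    have := Equiv.ext_iff.1 e z
    rwa [Perm.mul_apply w₁ w', Perm.mul_apply w' w₁, hw'v z hz, hw'v _ (by rw [h1.2.1, hz])] at this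
  exact no_abelian hm Φ {z | z l = v} (fun z hz => hz)
    (fun w hw z hz => show w z l = v by rw [hw.2.1]; exact hz)
    (fun w₁ h1 w₂ h2 z hz => hcomm w₁ h1 w₂ h2 z hz) (htr v hv)
    (fun τ hτ => by
      obtain ⟨W, h1, h2⟩ := hnorm v hv 1 rfl τ hτ
      exact ⟨W, fun z hz => h1 z hz, h2⟩) (Or.inl fun z hz => hz)

/-- An element preserving the fibres of `l` commutes with the 3-cycles in `l`. -/
theorem Hyp.comm_of_preserves (hG : Hyp G) (hm : 5 ≤ Fintype.card α) [Nontrivial ι]
    (hA : ¬ alternatingGroup (ι → α) ≤ G) {y : Perm (ι → α)} (hy : y ∈ G) {l : ι}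
    (hl : ∀ z, y z l = z l) {a b c : α} (hab : a ≠ b) (hbc : b ≠ c) (hac : a ≠ c) :
    y * at' l (cyc3 a b c) = at' l (cyc3 a b c) * y := by
  set r := at' l (cyc3 a b c) with hr
  have hrG : r ∈ G := hG.at'_mem l (Or.inr (sign_cyc3 hab hbc))
  obtain ⟨d, hd1, hd2, hd3⟩ := exists_avoid_three (show 4 ≤ Fintype.card α by omega) a b c
  have hrl : ∀ z, r z l = cyc3 a b c (z l) := fun z => at'_apply_self _ _ _
  have hrl' : ∀ z, r⁻¹ z l = (cyc3 a b c).symm (z l) := fun z => by
    have := hrl (r⁻¹ z)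
    rw [show r (r⁻¹ z) = z from Equiv.apply_symm_apply _ _] at this
    rw [this, Equiv.symm_apply_apply]
  have hyl' : ∀ z, y⁻¹ z l = z l := fun z => by
    have := hl (y⁻¹ z)
    rw [show y (y⁻¹ z) = z from Equiv.apply_symm_apply _ _] at this
    exact this.symm
  have h1 : y * r * y⁻¹ * r⁻¹ = 1 := by
    refine hG.fibre_trivial hm hA (G.mul_mem (G.mul_mem (G.mul_mem hy hrG) (G.inv_mem hy))
      (G.inv_mem hrG)) (l := l) (fun z => ?_) (v := d) fun z hz => ?_
    · simp only [Perm.mul_apply]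
      rw [hl, hrl, hyl', hrl', Equiv.apply_symm_apply]
    · have hfix : ∀ t : ι → α, t l = d → r t = t := fun t ht =>
        at'_fix (by rw [ht]; exact cyc3_other hd1 hd2 hd3)
      simp only [Perm.mul_apply]
      rw [show r⁻¹ z = z from Perm.inv_eq_iff_eq.2 (hfix z hz).symm, hfix _ (by rw [hyl', hz]),
        show y (y⁻¹ z) = z from Equiv.apply_symm_apply _ _]
  rwa [mul_inv_eq_one, mul_inv_eq_iff_eq_mul] at h1

/-- Such an element moves the other coordinates independently of the `l`-th one. -/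
theorem Hyp.apply_update (hG : Hyp G) (hm : 5 ≤ Fintype.card α) [Nontrivial ι]
    (hA : ¬ alternatingGroup (ι → α) ≤ G) {y : Perm (ι → α)} (hy : y ∈ G) {l : ι}
    (hl : ∀ z, y z l = z l) (z : ι → α) (e : α) :
    y (Function.update z l e) = Function.update (y z) l e := by
  by_cases h : e = z l
  · rw [h, Function.update_eq_self, ← hl z, Function.update_eq_self]
  obtain ⟨c, hc1, hc2⟩ := exists_avoid_two (show 3 ≤ Fintype.card α by omega) (z l) e
  have := Equiv.ext_iff.1 (hG.comm_of_preserves hm hA hy hl (Ne.symm h) hc2.symm hc1.symm) z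
  rw [Perm.mul_apply, Perm.mul_apply, at'_apply, at'_apply, hl,
    cyc3_fst (Ne.symm h) hc1.symm] at this
  exact this

/-- An element preserving all fibres of the coordinates other than `j` acts in `j` alone. -/
theorem Hyp.eq_at' (hG : Hyp G) (hm : 5 ≤ Fintype.card α) [Nontrivial ι]
    (hA : ¬ alternatingGroup (ι → α) ≤ G) {y : Perm (ι → α)} (hy : y ∈ G) {j : ι}
    (h : ∀ i, i ≠ j → ∀ z, y z i = z i) : ∃ f : Perm α, y = at' j f := by
  let f : α → α := fun a => y (fun _ => a) j
  have key : ∀ z, y z j = f (z j) := by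
    intro z
    have := rel_of_lines (fun a b => y a j = y b j) (fun a => a j = z j) (fun o => o ≠ j)
      (fun a _ => rfl) (fun a b c h h' => h.trans h')
      (fun a o e ha ho => by rw [Function.update_of_ne (Ne.symm ho)]; exact ha)
      (fun a b k ha hb hk => by rw [not_not.1 hk, ha, hb])
      (fun a o e _ ho _ => by
        rw [hG.apply_update hm hA hy (h o ho), Function.update_of_ne (Ne.symm ho)])
      z (fun _ => z j) rfl rfl
    exact this
  have hf : Function.Injective f := by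
    intro a b hab
    have : y (fun _ => a) = y (Function.update (fun _ => a) j b) := by
      funext s
      rcases eq_or_ne s j with rfl | hs
      · rw [key (Function.update _ _ _), Function.update_self]; exact hab
      · rw [h s hs, h s hs, Function.update_of_ne hs]
    have := congrFun (y.injective this) j
    rwa [Function.update_self] at this
  refine ⟨Equiv.ofBijective f (Finite.injective_iff_bijective.1 hf), Equiv.ext fun z => funext fun s => ?_⟩
  rcases eq_or_ne s j with rfl | hs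
  · rw [at'_apply_self, Equiv.ofBijective_apply, key]
  · rw [at'_apply_ne hs, h s hs]

end CfsgLib.ProdAct
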