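import Cfsg.Agent.Perm.ProdAct.Defs
import Mathlib.InformationTheory.Hamming

/-! The isometries of the Hamming distance are the product elements. -/

set_option autoImplicit false
set_option linter.unusedSectionVars false

namespace CfsgLib.ProdAct

open Equiv Equiv.Perm

universe u v

variable {ι : Type u} {α : Type v} [Fintype ι] [DecidableEq ι] [Fintype α] [DecidableEq α]

theorem IsProd.hammingDist_eq {g : Perm (ι → α)} (hg : IsProd g) (x y : ι → α) :
    hammingDist (g x) (g y) = hammingDist x y := by
  obtain ⟨π, τ, rfl⟩ := hg
  unfold hammingDist
  refine Finset.card_bij (fun k _ => π.symm k) (fun k hk => ?_) (fun _ _ _ _ e => π.symm.injective e)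
    fun k hk => ⟨π k, ?_, π.symm_apply_apply k⟩
  · simpa [pr_apply] using hk
  · simpa [pr_apply] using hk

theorem diff_of_dist_one {a b : ι → α} (h : hammingDist a b = 1) :
    ∃ i, a i ≠ b i ∧ ∀ k, k ≠ i → a k = b k := by
  unfold hammingDist at h
  obtain ⟨i, hi⟩ := Finset.card_eq_one.1 h
  have hiff : ∀ k, a k ≠ b k ↔ k = i := fun k => by
    have := Finset.ext_iff.1 hi k
    simpa using this
  exact ⟨i, (hiff i).2 rfl, fun k hk => by by_contra hn; exact hk ((hiff k).1 hn)⟩

theorem dist_update {a : ι → α} {i : ι} {c : α} (h : c ≠ a i) :
    hammingDist a (Function.update a i c) = 1 := by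
  unfold hammingDist
  rw [Finset.card_eq_one]
  refine ⟨i, ?_⟩
  ext k
  rcases eq_or_ne k i with rfl | hk
  · simp [h.symm]
  · simp [Function.update_of_ne hk, hk]

theorem isProd_of_isometry (hm : 3 ≤ Fintype.card α) {g : Perm (ι → α)}
    (hg : ∀ x y, hammingDist (g x) (g y) = hammingDist x y) : IsProd g := by
  haveI : Nonempty α := Fintype.card_pos_iff.1 (by omega)
  have a₀ := Classical.arbitrary α
  set o : ι → α := fun _ => a₀
  obtain ⟨a₁, ha₁⟩ : ∃ a₁, a₁ ≠ a₀ := by
    obtain ⟨a₁, -, h⟩ := Finset.exists_mem_ne (s := (Finset.univ : Finset α))
      (by rw [Finset.card_univ]; omega) a₀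
    exact ⟨a₁, h⟩
  have hone : ∀ i, ∃ k, g o k ≠ g (Function.update o i a₁) k ∧
      ∀ k', k' ≠ k → g o k' = g (Function.update o i a₁) k' := fun i =>
    diff_of_dist_one (by rw [hg, dist_update ha₁])
  choose π hπ1 hπ2 using hone
  -- all changes of the coordinate `i` change the coordinate `π i`
  have hline : ∀ i c k, k ≠ π i → g (Function.update o i c) k = g o k := by
    intro i c k hk
    by_cases hc : c = a₀
    · rw [hc]; rw [show Function.update o i a₀ = o from Function.update_eq_self i o]
    by_cases hc1 : c = a₁
    · rw [hc1]; exact (hπ2 i k hk).symm
    obtain ⟨k', hk1, hk2⟩ := diff_of_dist_one (a := g o) (b := g (Function.update o i c))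
      (by rw [hg, dist_update hc])
    have hd : hammingDist (g (Function.update o i c)) (g (Function.update o i a₁)) = 1 := by
      rw [hg]
      have : Function.update o i a₁ = Function.update (Function.update o i c) i a₁ := by
        rw [Function.update_idem]
      rw [this]
      exact dist_update (by rw [Function.update_self]; exact Ne.symm hc1)
    obtain ⟨k'', -, hk4⟩ := diff_of_dist_one hd
    have hkk : k' = π i := by
      by_contra hne
      have e1 : g (Function.update o i c) k' ≠ g (Function.update o i a₁) k' := by
        rw [← hπ2 i k' hne]; exact hk1.symm
      have e2 : g (Function.update o i c) (π i) ≠ g (Function.update o i a₁) (π i) := by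
        rw [← hk2 (π i) (Ne.symm hne)]; exact hπ1 i
      by_cases h : k' = k''
      · exact e2 (hk4 _ (fun h' => hne (h.trans h'.symm)))
      · exact e1 (hk4 _ h)
    exact (hk2 k (hkk ▸ hk)).symm
  have hπinj : Function.Injective π := by
    intro i l hil
    by_contra hne
    have h2 : 2 ≤ hammingDist (Function.update o i a₁) (Function.update o l a₁) := by
      unfold hammingDist
      refine le_trans ?_ (Finset.card_le_card (s := {i, l}) fun k hk => ?_)
      · rw [Finset.card_pair hne]
      · simp only [Finset.mem_insert, Finset.mem_singleton] at hk
        rcases hk with rfl | rfl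
        · simp [Function.update_of_ne hne, o, ha₁]
        · simp [Function.update_of_ne (Ne.symm hne), o, ha₁.symm]
    rw [← hg] at h2
    have h1 : hammingDist (g (Function.update o i a₁)) (g (Function.update o l a₁)) ≤ 1 := by
      unfold hammingDist
      refine le_trans (Finset.card_le_card (t := {π i}) fun k hk => ?_) (by simp)
      rw [Finset.mem_singleton]
      by_contra hk'
      simp only [Finset.mem_filter, Finset.mem_univ, true_and] at hk
      exact hk (by rw [hline i a₁ k hk', hline l a₁ k (hil ▸ hk')])
    omega
  set π' : Perm ι := Equiv.ofBijective π (Finite.injective_iff_bijective.1 hπinj) with hπ'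
  have hτinj : ∀ i, Function.Injective fun c => g (Function.update o i c) (π i) := by
    intro i c d h
    have : g (Function.update o i c) = g (Function.update o i d) := by
      funext k
      rcases eq_or_ne k (π i) with rfl | hk
      · exact h
      · rw [hline i c k hk, hline i d k hk]
    have := congrFun (g.injective this) i
    rwa [Function.update_self, Function.update_self] at this
  let τ : ι → Perm α := fun k => Equiv.ofBijective _
    (Finite.injective_iff_bijective.1 (hτinj (π'.symm k)))
  set w := pr π' τ with hw
  have hwo : ∀ i c, w (Function.update o i c) = g (Function.update o i c) := by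
    intro i c
    funext k
    rw [hw, pr_apply]
    have hk : π (π'.symm k) = k := π'.apply_symm_apply k
    show g (Function.update o (π'.symm k) (Function.update o i c (π'.symm k))) (π (π'.symm k)) = _
    rcases eq_or_ne (π'.symm k) i with h | h
    · rw [h, Function.update_self]; rw [h] at hk; rw [hk]
    · rw [Function.update_of_ne h, hk, hline i c k (fun e => h (hπinj (hk.trans e)))]
      rw [show Function.update o (π'.symm k) (o (π'.symm k)) = o from Function.update_eq_self _ o]
  have hwiso := (show IsProd w from ⟨_, _, rfl⟩).inv.hammingDist_eq
  set g' := w⁻¹ * g with hg'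
  have hg'iso : ∀ x y, hammingDist (g' x) (g' y) = hammingDist x y := fun x y => by
    rw [hg', Perm.mul_apply, Perm.mul_apply, hwiso, hg]
  have hfix : ∀ i c, g' (Function.update o i c) = Function.update o i c := fun i c => by
    rw [hg', Perm.mul_apply, ← hwo]; exact w.symm_apply_apply _
  have hid : g' = 1 := by
    refine Equiv.ext fun z => ?_
    suffices H : ∀ s : Finset ι, ∀ z : ι → α, (∀ k, z k ≠ o k ↔ k ∈ s) → g' z = z from
      H (Finset.univ.filter fun k => z k ≠ o k) z fun k => by simp
    intro s
    induction s using Finset.strongInduction with
    | _ s ih =>
      intro z hz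
      by_cases hs : s.card ≤ 1
      · rcases Finset.eq_empty_or_nonempty s with rfl | ⟨i, hi⟩
        · rcases isEmpty_or_nonempty ι with he | he
          · exact funext fun k => (IsEmpty.false k).elim
          obtain ⟨i⟩ := he
          have hzo : z = Function.update o i a₀ := funext fun k => by
            have : z k = o k := by by_contra hk; exact absurd ((hz k).1 hk) (Finset.notMem_empty k)
            rw [this, show Function.update o i a₀ = o from Function.update_eq_self i o]
          rw [hzo]; exact hfix i a₀
        · have hzi : z = Function.update o i (z i) := funext fun k => by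
            rcases eq_or_ne k i with rfl | hk
            · rw [Function.update_self]
            · rw [Function.update_of_ne hk]
              by_contra hk'
              exact hk (Finset.card_le_one.1 hs k ((hz k).1 hk') i hi)
          rw [hzi]; exact hfix i (z i)
      · obtain ⟨i, l, hi, hl, hil⟩ := Finset.one_lt_card_iff.1 (show 1 < s.card by omega)
        have sub : ∀ t, t ∈ s → g' (Function.update z t a₀) = Function.update z t a₀ := fun t ht => by
          refine ih (s.erase t) (Finset.erase_ssubset ht) _ fun k => ?_
          rcases eq_or_ne k t with rfl | hk
          · simp [o]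
          · rw [Function.update_of_ne hk, hz, Finset.mem_erase]; simp [hk]
        have hd0 : hammingDist (g' z) o = hammingDist z o := by
          have := hg'iso z (Function.update o i a₀)
          rwa [hfix i a₀, show Function.update o i a₀ = o from Function.update_eq_self i o] at this
        have hzi : z i ≠ a₀ := (hz i).2 hi
        have hzl : z l ≠ a₀ := (hz l).2 hl
        have di : hammingDist (g' z) (Function.update z i a₀) = 1 := by
          rw [← sub i hi, hg'iso]; exact dist_update hzi.symm
        have dl : hammingDist (g' z) (Function.update z l a₀) = 1 := by
          rw [← sub l hl, hg'iso]; exact dist_update hzl.symm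
        obtain ⟨k, -, hk2⟩ := diff_of_dist_one di
        obtain ⟨k', -, hk2'⟩ := diff_of_dist_one dl
        have hrest : ∀ t, t ≠ i → t ≠ l → g' z t = z t := by
          intro t hti htl
          by_contra hne
          have e1 : k = t := by
            by_contra h
            exact hne ((hk2 t (Ne.symm h)).trans (Function.update_of_ne hti _ _))
          have e2 := hk2 i (by rw [e1]; exact Ne.symm hti)
          have e3 := hk2 l (by rw [e1]; exact Ne.symm htl)
          have e4 : k' = t := by
            by_contra h
            exact hne ((hk2' t (Ne.symm h)).trans (Function.update_of_ne htl _ _))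
          have e5 := hk2' i (by rw [e4]; exact Ne.symm hti)
          rw [Function.update_self] at e2
          rw [Function.update_of_ne hil] at e5
          exact hzi (e5.symm.trans e2)
        have hboth : g' z i = z i ∧ g' z l = z l ∨ g' z i = a₀ ∧ g' z l = a₀ := by
          by_cases hki : k = i
          · have hl' : g' z l = z l :=
              (hk2 l (by rw [hki]; exact hil.symm)).trans (Function.update_of_ne hil.symm _ _)
            have hk'l : k' = l := by
              by_contra h
              have := hk2' l (Ne.symm h)
              rw [Function.update_self, hl'] at this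
              exact hzl this
            exact Or.inl ⟨(hk2' i (by rw [hk'l]; exact hil)).trans (Function.update_of_ne hil _ _), hl'⟩
          · have hi' : g' z i = a₀ := (hk2 i (Ne.symm hki)).trans (Function.update_self ..)
            have hk'i : k' = i := by
              by_contra h
              have := hk2' i (Ne.symm h)
              rw [Function.update_of_ne hil, hi'] at this
              exact hzi this.symm
            exact Or.inr ⟨hi', (hk2' l (by rw [hk'i]; exact hil.symm)).trans (Function.update_self ..)⟩
        rcases hboth with ⟨h1, h2⟩ | ⟨h1, h2⟩
        · funext t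
          rcases eq_or_ne t i with rfl | hti
          · exact h1
          rcases eq_or_ne t l with rfl | htl
          · exact h2
          exact hrest t hti htl
        · exfalso
          unfold hammingDist at hd0
          refine absurd hd0 (Nat.ne_of_lt (Finset.card_lt_card ?_))
          refine Finset.ssubset_iff_of_subset (fun t ht => ?_) |>.2 ⟨i, by simpa [o] using hzi,
            by simp [o, h1]⟩
          simp only [Finset.mem_filter, Finset.mem_univ, true_and] at ht ⊢
          rcases eq_or_ne t i with rfl | hti
          · exact absurd h1 ht
          rcases eq_or_ne t l with rfl | htl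
          · exact absurd h2 ht
          rwa [hrest t hti htl] at ht
  exact ⟨π', τ, (inv_mul_eq_one.1 hid).symm⟩

end CfsgLib.ProdAct
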