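import Mathlib.GroupTheory.Sylow
import Mathlib.GroupTheory.Nilpotent

/-! Maximal `p`-subgroups inside a finite group given as a subgroup. -/

set_option autoImplicit false

namespace CfsgLib.ProdAct

universe u

variable {Γ : Type u} [Group Γ] [Finite Γ] {p : ℕ} [Fact p.Prime]

/-- A maximal `p`-subgroup of `S` is one of `H ≥ S` when all elements of `H` normalising it lie in `S`. -/
theorem maximal_of_normalizer {S H B : Subgroup Γ} (hB : IsPGroup p B) (hBS : B ≤ S)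
    (hmax : ∀ Q : Subgroup Γ, IsPGroup p Q → Q ≤ S → B ≤ Q → Q = B)
    (hnorm : ∀ h ∈ H, (∀ b ∈ B, h * b * h⁻¹ ∈ B) → h ∈ S) :
    ∀ Q : Subgroup Γ, IsPGroup p Q → Q ≤ H → B ≤ Q → Q = B := by
  intro Q hQ hQH hBQ
  have hQS : Q ⊓ S = B := hmax _ (hQ.to_le inf_le_left) inf_le_right (le_inf hBQ hBS)
  by_contra hne
  haveI := hQ.isNilpotent
  have hlt : B.subgroupOf Q < ⊤ := by
    rw [lt_top_iff_ne_top, Ne, Subgroup.subgroupOf_eq_top]
    exact fun h => hne (le_antisymm h hBQ)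
  obtain ⟨h, hhn, hhB⟩ := SetLike.exists_of_lt (Group.normalizerCondition_of_isNilpotent _ hlt)
  rw [Subgroup.mem_normalizer_iff] at hhn
  refine hhB (Subgroup.mem_subgroupOf.2 ?_)
  rw [← hQS]
  refine ⟨h.2, hnorm _ (hQH h.2) fun b hb => ?_⟩
  exact Subgroup.mem_subgroupOf.1 ((hhn ⟨b, hBQ hb⟩).1 (Subgroup.mem_subgroupOf.2 hb))

/-- Sylow conjugacy. -/
theorem exists_conj_mem {H B Q : Subgroup Γ} (hB : IsPGroup p B) (hBH : B ≤ H)
    (hmax : ∀ Q : Subgroup Γ, IsPGroup p Q → Q ≤ H → B ≤ Q → Q = B) (hQ : IsPGroup p Q)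
    (hQH : Q ≤ H) : ∃ c ∈ H, ∀ b ∈ Q, c * b * c⁻¹ ∈ B := by
  let P : Sylow p H :=
    { toSubgroup := B.subgroupOf H
      isPGroup' := hB.comap_subtype
      is_maximal' := fun {R} hR hle => by
        have hBR : B ≤ R.map H.subtype := fun b hb =>
          ⟨⟨b, hBH hb⟩, hle (Subgroup.mem_subgroupOf.2 hb), rfl⟩
        have e := hmax _ (hR.map H.subtype) (Subgroup.map_subtype_le R) hBR
        refine le_antisymm (fun x hx => ?_) hle
        rw [Subgroup.mem_subgroupOf, ← e]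
        exact ⟨x, hx, rfl⟩ }
  obtain ⟨R, hR⟩ := (hQ.comap_subtype (K := H)).exists_le_sylow
  obtain ⟨c, hc⟩ := MulAction.exists_smul_eq H R P
  refine ⟨c, c.2, fun b hb => ?_⟩
  have hbR : (⟨b, hQH hb⟩ : H) ∈ (R : Subgroup H) := hR (Subgroup.mem_subgroupOf.2 hb)
  have : c * ⟨b, hQH hb⟩ * c⁻¹ ∈ (P : Subgroup H) := by
    rw [← hc, Sylow.coe_subgroup_smul]
    exact Subgroup.smul_mem_pointwise_smul _ (MulAut.conj c) _ hbR
  exact Subgroup.mem_subgroupOf.1 this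

end CfsgLib.ProdAct
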