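import Cfsg.Agent.Perm.ProdAct.Central
import Cfsg.Agent.Perm.ProdAct.Isometry
import Cfsg.Agent.Perm.ProdAct.Sylow

/-! A group between the even part of the product action wreath product and the symmetric group
contains the alternating group or consists of product elements. -/

set_option autoImplicit false
set_option linter.unusedSectionVars false
set_option maxHeartbeats 800000

namespace CfsgLib.ProdAct

open Equiv Equiv.Perm MulAction

universe u v

variable {ι : Type u} {α : Type v} [Fintype ι] [DecidableEq ι] [Fintype α] [DecidableEq α]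
  {G : Subgroup (Perm (ι → α))}

theorem isProd_of_subsingleton [Nonempty α] (h : Fintype.card ι ≤ 1) (g : Perm (ι → α)) : IsProd g := by
  haveI : Subsingleton ι := Fintype.card_le_one_iff_subsingleton.1 h
  have hτ : ∀ i : ι, Function.Bijective fun c => g (fun _ => c) i := by
    intro i
    refine Finite.injective_iff_bijective.1 fun c d hcd => ?_
    have : g (fun _ => c) = g (fun _ => d) := funext fun k => by
      rw [Subsingleton.elim k i]; exact hcd
    exact congrFun (g.injective this) i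
  refine ⟨1, fun i => Equiv.ofBijective _ (hτ i), Equiv.ext fun z => funext fun i => ?_⟩
  show g z i = g (fun _ => z ((1 : Perm ι).symm i)) i
  exact congrArg (fun w : ι → α => g w i)
    (funext fun k => congrArg z (Subsingleton.elim k _))

/-- `h` preserves the coordinate `j` on the values outside `U` and acts there by `σ`. -/
def Agrees (j : ι) (U : Finset α) (h : Perm (ι → α)) (σ : Perm ({i // i ≠ j} → α)) : Prop :=
  ∀ z : ι → α, z j ∉ U → h z j = z j ∧ ∀ i : {i // i ≠ j}, h z i = σ (fun k => z k) i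

theorem Agrees.inv {j : ι} {U : Finset α} {h : Perm (ι → α)} {σ : Perm ({i // i ≠ j} → α)}
    (hh : Agrees j U h σ) : Agrees j U h⁻¹ σ⁻¹ := by
  intro z hz
  set E := Equiv.funSplitAt j α with hE
  set w := E.symm (z j, σ⁻¹ fun k => z k) with hw
  have hwj : w j = z j := by simp [hw, hE, Equiv.funSplitAt, Equiv.piSplitAt]
  have hwk : (fun k : {i // i ≠ j} => w k) = σ⁻¹ fun k => z k :=
    funext fun k => by simp [hw, hE, Equiv.funSplitAt, Equiv.piSplitAt, k.2]
  obtain ⟨h1, h2⟩ := hh w (by rw [hwj]; exact hz)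
  have hwz : h w = z := funext fun i => by
    rcases eq_or_ne i j with rfl | hi
    · rw [h1, hwj]
    · rw [show h w i = σ (fun k => w k) ⟨i, hi⟩ from h2 ⟨i, hi⟩, hwk]
      exact congrFun (σ.apply_symm_apply fun k => z k) ⟨i, hi⟩
  rw [show h⁻¹ z = w from Perm.inv_eq_iff_eq.2 hwz.symm]
  exact ⟨hwj, fun i => congrFun hwk i⟩

/-- The permutations of the other coordinates induced outside `U`. -/
def Hyp.induced (_ : Hyp G) (j : ι) (U : Finset α) : Subgroup (Perm ({i // i ≠ j} → α)) where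
  carrier := {σ | ∃ h ∈ G, Agrees j U h σ}
  one_mem' := ⟨1, G.one_mem, fun z _ => ⟨rfl, fun i => rfl⟩⟩
  mul_mem' := fun {σ τ} hσ hτ => by
    obtain ⟨a, ha, ha'⟩ := hσ
    obtain ⟨b, hb, hb'⟩ := hτ
    refine ⟨a * b, G.mul_mem ha hb, fun z hz => ?_⟩
    obtain ⟨h1, h2⟩ := hb' z hz
    obtain ⟨h3, h4⟩ := ha' (b z) (by rw [h1]; exact hz)
    exact ⟨h3.trans h1, fun i => (h4 i).trans (congrFun (congrArg σ (funext h2)) i)⟩
  inv_mem' := fun {σ} hσ => by
    obtain ⟨a, ha, ha'⟩ := hσ
    exact ⟨a⁻¹, G.inv_mem ha, ha'.inv⟩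

theorem swap_comm_of_fix {β : Type*} [DecidableEq β] (f : Perm β) {a b : β} (ha : f a = a)
    (hb : f b = b) : f * swap a b = swap a b * f := by
  refine Equiv.ext fun z => ?_
  rw [Perm.mul_apply, Perm.mul_apply]
  rcases eq_or_ne z a with rfl | h1
  · rw [swap_apply_left, hb, ha, swap_apply_left]
  · rcases eq_or_ne z b with rfl | h2
    · rw [swap_apply_right, ha, hb, swap_apply_right]
    · rw [swap_apply_of_ne_of_ne h1 h2, swap_apply_of_ne_of_ne (fun h => h1 (f.injective (h.trans ha.symm)))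
        fun h => h2 (f.injective (h.trans hb.symm))]

variable {p r : ℕ} [Fact p.Prime]

/-- Product elements of the other coordinates are induced. -/
theorem Hyp.induced_prod (hG : Hyp G) {j : ι} {e : Fin r × ZMod p ↪ α} (hgood : Good e)
    (π' : Perm {i // i ≠ j}) (τ' : {i // i ≠ j} → Perm α) :
    ∃ W ∈ G, IsProd W ∧ Agrees j (outside e) W (pr π' τ') := by
  obtain ⟨u₁, hu₁, u₂, hu₂, hu⟩ := Finset.one_lt_card.1 (show 1 < (outside e).card from hgood.two_le)
  set π : Perm ι := Perm.ofSubtype π' with hπ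
  let τ : ι → Perm α := fun i => if h : i = j then 1 else τ' ⟨i, h⟩
  obtain ⟨δ, hδ, hW⟩ := hG.lift π τ j hu
  refine ⟨_, hW, (isProd_at' j δ).mul ⟨_, _, rfl⟩, fun z hz => ?_⟩
  have hπj : π.symm j = j := by
    rw [Equiv.symm_apply_eq, hπ, Perm.ofSubtype_apply_of_not_mem π' (fun h => h rfl)]
  have hτj : τ j = 1 := dif_pos rfl
  have h0 : pr π τ z j = z j := by rw [pr_apply, hπj, hτj]; rfl
  have hW' : (at' j δ * pr π τ) z = pr π τ z := by
    rw [Perm.mul_apply]
    refine at'_fix (swap_fix_of hδ ?_ ?_) <;> rw [h0] <;> intro h <;> exact hz (h ▸ by assumption)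
  refine ⟨by rw [hW', h0], fun i => ?_⟩
  rw [hW', pr_apply, pr_apply]
  have e1 : π.symm i = (π'.symm i : ι) := by
    rw [Equiv.symm_apply_eq, hπ, Perm.ofSubtype_apply_coe, Equiv.apply_symm_apply]
  rw [e1]
  show (if h : (i : ι) = j then (1 : Perm α) else τ' ⟨i, h⟩) _ = _
  rw [dif_neg i.2]

/-- The induced group does not contain the alternating group. -/
theorem Hyp.induced_not_giant (hG : Hyp G) [Nontrivial ι] (hA : ¬ alternatingGroup (ι → α) ≤ G)
    {j : ι} {e : Fin r × ZMod p ↪ α} (hgood : Good e) [Nontrivial {i // i ≠ j}] :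
    ¬ alternatingGroup ({i // i ≠ j} → α) ≤ hG.induced j (outside e) := by
  intro hL
  have hm := hgood.five
  obtain ⟨i, l, hil⟩ := exists_pair_ne {i // i ≠ j}
  have hα : Nonempty α := Fintype.card_pos_iff.1 (by omega)
  obtain ⟨b⟩ := hα
  obtain ⟨c₂, hc2, -⟩ := exists_avoid_two (show 3 ≤ Fintype.card α by omega) b b
  obtain ⟨c₃, hc3, hc3'⟩ := exists_avoid_two (show 3 ≤ Fintype.card α by omega) b c₂
  set base : {i // i ≠ j} → α := fun _ => b with hbase
  set P : α → ({i // i ≠ j} → α) := fun c => Function.update base l c with hP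
  have hPi : ∀ c, P c i = b := fun c => by simp [hP, hbase, Function.update_of_ne hil]
  have hPinj : Function.Injective P := fun c d h => by
    have := congrFun h l
    simpa [hP] using this
  set σ := cyc3 (P b) (P c₂) (P c₃) with hσ
  have hσmem : σ ∈ hG.induced j (outside e) :=
    hL (Equiv.Perm.mem_alternatingGroup.2
      (sign_cyc3 (fun h => hc2 (hPinj h).symm) fun h => hc3' (hPinj h).symm))
  obtain ⟨h, hhG, hh⟩ := hσmem
  have hh' := hh.inv
  -- the commutation with elements in the coordinate `i`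
  have hcomm : ∀ ρ : Perm α, sign ρ = 1 → ρ b = b → ∀ z, h (at' (i : ι) ρ z) i = ρ (h z i) := by
    intro ρ hρ hρb
    set R := at' (i : ι) ρ with hR
    have hRG : R ∈ G := hG.at'_mem _ (Or.inr hρ)
    set w := h * R * h⁻¹ * R⁻¹ with hw
    set R' := at' i ρ with hR'
    have hR'fix : ∀ c, R' (P c) = P c := fun c => at'_fix (by rw [hPi, hρb])
    have hRσ : R' * σ = σ * R' := by
      rw [hσ, cyc3, ← mul_assoc, swap_comm_of_fix R' (hR'fix b) (hR'fix c₂), mul_assoc,
        swap_comm_of_fix R' (hR'fix c₂) (hR'fix c₃), ← mul_assoc]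
    have hRj : ∀ z, R z j = z j := fun z => at'_apply_ne (Ne.symm i.2) _ _
    have hres : ∀ z : ι → α, (fun k : {i // i ≠ j} => R z k) = R' (fun k => z k) := by
      intro z
      funext k
      rcases eq_or_ne k i with rfl | hk
      · rw [hR, hR', at'_apply_self, at'_apply_self]
      · rw [hR, hR', at'_apply_ne hk, at'_apply_ne (fun h' => hk (Subtype.ext h'))]
    have hfix : ∀ z : ι → α, z j ∉ outside e → w z = z := by
      intro z hz
      obtain ⟨z₀, rfl⟩ := R.surjective z
      rw [hw, Perm.mul_apply, Perm.mul_apply, Perm.mul_apply,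
        show R⁻¹ (R z₀) = z₀ from R.symm_apply_apply z₀]
      rw [hRj] at hz
      obtain ⟨a1, a2⟩ := hh' z₀ hz
      have hy : R (h⁻¹ z₀) j ∉ outside e := by rw [hRj, a1]; exact hz
      obtain ⟨a3, a4⟩ := hh _ hy
      funext k
      rcases eq_or_ne k j with rfl | hk
      · rw [a3, hRj, hRj, a1]
      · rw [show h (R (h⁻¹ z₀)) k = σ (fun t : {i // i ≠ j} => R (h⁻¹ z₀) t) ⟨k, hk⟩ from a4 ⟨k, hk⟩, hres,
          show R z₀ k = R' (fun t : {i // i ≠ j} => z₀ t) ⟨k, hk⟩ from congrFun (hres z₀) ⟨k, hk⟩,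
          show (fun t : {i // i ≠ j} => h⁻¹ z₀ t) = σ⁻¹ (fun t : {i // i ≠ j} => z₀ t) from funext a2,
          ← Perm.mul_apply σ, ← hRσ, Perm.mul_apply,
          show σ (σ⁻¹ fun t : {i // i ≠ j} => z₀ t) = fun t : {i // i ≠ j} => z₀ t from σ.apply_symm_apply _]
    obtain ⟨f, hf⟩ := hG.region_fix hm hA (Finset.card_pos.1 (by have := hgood.two_le; omega))
      hgood.small (G.mul_mem (G.mul_mem (G.mul_mem hhG hRG) (G.inv_mem hhG)) (G.inv_mem hRG)) hfix
    intro z
    have e1 : w (R (h z)) = h (R z) := by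
      show (h * R * h⁻¹ * R⁻¹) (R (h z)) = _
      simp
    rw [show w = at' j f from hf] at e1
    have := congrFun e1 (i : ι)
    rw [at'_apply_ne i.2, hR, at'_apply_self] at this
    exact this.symm
  -- `h` preserves the coordinate `i`
  have hb : ∀ z : ι → α, z i = b → h z i = b := by
    intro z hz
    by_contra hne
    obtain ⟨x, hx1, hx2⟩ := exists_avoid_two (show 3 ≤ Fintype.card α by omega) b (h z i)
    obtain ⟨y, hy1, hy2, hy3⟩ := exists_avoid_three (show 4 ≤ Fintype.card α by omega) b (h z i) x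
    have hρb : cyc3 (h z i) x y b = b := cyc3_other (Ne.symm hne) hx1.symm hy1.symm
    have := hcomm _ (sign_cyc3 hx2.symm hy3.symm) hρb z
    rw [at'_fix (by rw [hz]; exact hρb), cyc3_fst hx2.symm hy2.symm] at this
    exact hx2 this.symm
  have hi : ∀ z, h z i = z i := by
    intro z
    by_cases hz : z i = b
    · rw [hb z hz, hz]
    by_contra hne
    have himg : (region (i : ι) ({b} : Finset α)).image h = region (i : ι) {b} := by
      refine Finset.eq_of_subset_of_card_le (fun w hw => ?_)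
        (by rw [Finset.card_image_of_injective _ h.injective])
      obtain ⟨w₀, hw₀, rfl⟩ := Finset.mem_image.1 hw
      rw [mem_region, Finset.mem_singleton] at hw₀ ⊢
      exact hb _ hw₀
    have hne' : h z i ≠ b := fun he => hz (by
      have : h z ∈ (region (i : ι) ({b} : Finset α)).image h := by
        rw [himg, mem_region, Finset.mem_singleton]; exact he
      obtain ⟨w₀, hw₀, he'⟩ := Finset.mem_image.1 this
      rw [mem_region, Finset.mem_singleton, h.injective he'] at hw₀
      exact hw₀)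
    obtain ⟨x, hx⟩ := exists_avoid {b, z i, h z i} (lt_of_le_of_lt Finset.card_le_three (by omega))
    simp only [Finset.mem_insert, Finset.mem_singleton, not_or] at hx
    obtain ⟨hx1, hx2, hx3⟩ := hx
    obtain ⟨y, hy⟩ := exists_avoid {b, z i, h z i, x} (lt_of_le_of_lt Finset.card_le_four (by omega))
    simp only [Finset.mem_insert, Finset.mem_singleton, not_or] at hy
    obtain ⟨hy1, hy2, hy3, hy4⟩ := hy
    have hρb : cyc3 (h z i) x y b = b := cyc3_other (Ne.symm hne') (Ne.symm hx1) (Ne.symm hy1)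
    have := hcomm _ (sign_cyc3 (Ne.symm hx3) (Ne.symm hy4)) hρb z
    rw [at'_fix (cyc3_other (Ne.symm hne) (Ne.symm hx2) (Ne.symm hy2)),
      cyc3_fst (Ne.symm hx3) (Ne.symm hy3)] at this
    exact hx3 this.symm
  obtain ⟨t₀, ht₀⟩ : ∃ t₀, t₀ ∉ outside e :=
    ⟨_, apply_notMem_outside e (⟨0, hgood.pos⟩, 0)⟩
  set p₁ : ι → α := (Equiv.funSplitAt j α).symm (t₀, P b) with hp₁
  have hp₁j : p₁ j = t₀ := by simp [hp₁, Equiv.funSplitAt, Equiv.piSplitAt]
  have hp₁r : (fun k : {i // i ≠ j} => p₁ k) = P b :=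
    funext fun k => by simp [hp₁, Equiv.funSplitAt, Equiv.piSplitAt, k.2]
  obtain ⟨-, e2⟩ := hh p₁ (by rw [hp₁j]; exact ht₀)
  obtain ⟨-, e3⟩ := hh (Function.update p₁ (i : ι) c₂)
    (by rw [Function.update_of_ne (Ne.symm i.2), hp₁j]; exact ht₀)
  have e4 : (fun k : {i // i ≠ j} => Function.update p₁ (i : ι) c₂ k) =
      Function.update (P b) i c₂ := by
    funext k
    rcases eq_or_ne k i with rfl | hk
    · rw [Function.update_self, Function.update_self]
    · rw [Function.update_of_ne hk, Function.update_of_ne (fun h' => hk (Subtype.ext h'))]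
      exact congrFun hp₁r k
  have e5 := e3 l
  have hnfix : ∀ c, Function.update (P b) i c₂ ≠ P c := fun c h' => by
    have := congrFun h' i
    rw [Function.update_self, hPi] at this
    exact hc2 this
  rw [hG.apply_update hm hA hhG hi, e4, hσ, cyc3_other (hnfix b) (hnfix c₂) (hnfix c₃),
    Function.update_of_ne (fun h' => hil (Subtype.ext h').symm), e2 l, hp₁r, hσ,
    cyc3_fst (fun h' => hc2 (hPinj h').symm) (fun h' => hc3 (hPinj h').symm),
    Function.update_of_ne hil.symm] at e5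
  simp [hP] at e5
  exact hc2 e5

/-- Centralising elements are product elements, given the statement in one coordinate less. -/
theorem Hyp.centralizer_isProd (hG : Hyp G) [Nontrivial ι] (hA : ¬ alternatingGroup (ι → α) ≤ G)
    {j : ι} {e : Fin r × ZMod p ↪ α} (hgood : Good e)
    (ih : ∀ L : Subgroup (Perm ({i // i ≠ j} → α)), Hyp L → Nontrivial {i // i ≠ j} →
      ¬ alternatingGroup ({i // i ≠ j} → α) ≤ L → ∀ σ ∈ L, IsProd σ)
    {g : Perm (ι → α)} (hg : g ∈ G)
    (hgc : ∀ s, g * at' j (cyc e s) = at' j (cyc e s) * g) : IsProd g := by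
  have hm := hgood.five
  haveI : Nonempty α := Fintype.card_pos_iff.1 (by omega)
  obtain ⟨c, σ, hg', hag⟩ := hG.centralizer_normal hA hgood hg hgc
  have hσ : IsProd σ := by
    by_cases h1 : Fintype.card {i // i ≠ j} ≤ 1
    · exact isProd_of_subsingleton h1 σ
    haveI : Nontrivial {i // i ≠ j} := Fintype.one_lt_card_iff_nontrivial.1 (by omega)
    refine ih (hG.induced j (outside e)) ⟨fun τ _ => ?_, fun π => ⟨1, ?_⟩⟩ inferInstance
      (hG.induced_not_giant hA hgood) σ ⟨_, hg', hag⟩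
    · obtain ⟨W, hW, -, hW'⟩ := hG.induced_prod hgood 1 τ
      exact ⟨W, hW, hW'⟩
    · obtain ⟨W, hW, -, hW'⟩ := hG.induced_prod hgood π 1
      exact ⟨W, hW, hW'⟩
  obtain ⟨π', τ', rfl⟩ := hσ
  obtain ⟨W, hW, hWp, hW'⟩ := hG.induced_prod hgood π' τ'
  set g' := at' j (shift e c) * g with hg'def
  obtain ⟨f, hf⟩ := hG.region_fix hm hA (Finset.card_pos.1 (by have := hgood.two_le; omega))
    hgood.small (G.mul_mem (G.inv_mem hW) hg') fun z hz => by
      obtain ⟨a1, a2⟩ := hag z hz
      obtain ⟨b1, b2⟩ := hW' z hz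
      rw [Perm.mul_apply, Perm.inv_eq_iff_eq]
      funext k
      rcases eq_or_ne k j with rfl | hk
      · rw [a1, b1]
      · exact (a2 ⟨k, hk⟩).trans (b2 ⟨k, hk⟩).symm
  rw [show g = (at' j (shift e c))⁻¹ * (W * at' j f) by rw [← hf, hg'def]; group]
  exact (isProd_at' _ _).inv.mul (hWp.mul (isProd_at' _ _))

theorem card_outside (e : Fin r × ZMod p ↪ α) :
    (outside e).card = Fintype.card α - r * p := by
  rw [outside, Finset.card_compl, Finset.card_map, Finset.card_univ, Fintype.card_prod,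
    Fintype.card_fin, ZMod.card]

theorem Good.trans {e : Fin r × ZMod p ↪ α} (h : Good e) (ρ : Perm α) :
    Good (e.trans ρ.toEmbedding) := by
  have hc : (outside (e.trans ρ.toEmbedding)).card = (outside e).card := by
    rw [card_outside, card_outside]
  exact ⟨h.odd, h.pos, hc ▸ h.two_le, hc ▸ h.small, h.five, hc ▸ h.shape⟩

/-- Elements conjugating a family into the wreath product are product elements. -/
theorem Hyp.isProd_of_conj (hG : Hyp G) [Nontrivial ι] (hA : ¬ alternatingGroup (ι → α) ≤ G)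
    {j : ι} {e : Fin r × ZMod p ↪ α} (hgood : Good e)
    (ih : ∀ L : Subgroup (Perm ({i // i ≠ j} → α)), Hyp L → Nontrivial {i // i ≠ j} →
      ¬ alternatingGroup ({i // i ≠ j} → α) ≤ L → ∀ σ ∈ L, IsProd σ)
    {h : Perm (ι → α)} (hh : h ∈ G)
    (hc : ∀ s, IsProd (h * at' j (cyc e s) * h⁻¹)) : IsProd h := by
  have hpm : p + 2 ≤ Fintype.card α := by
    have := hgood.two_le
    rw [card_outside] at this
    have : 1 * p ≤ r * p := Nat.mul_le_mul_right _ hgood.pos
    omega
  obtain ⟨w, hw, hwp, hwc⟩ := hG.exists_agree e hpm j hgood.pos hc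
  have := hwp.mul (hG.centralizer_isProd hA hgood ih (G.mul_mem (G.inv_mem hw) hh) hwc)
  rwa [mul_inv_cancel_left] at this

/-- All elements of `G` preserve the Hamming distance. -/
theorem Hyp.isometry (hG : Hyp G) [Nontrivial ι] (hA : ¬ alternatingGroup (ι → α) ≤ G)
    {e₀ : Fin r × ZMod p ↪ α} (hgood : Good e₀) (j : ι)
    (ih : ∀ L : Subgroup (Perm ({i // i ≠ j} → α)), Hyp L → Nontrivial {i // i ≠ j} →
      ¬ alternatingGroup ({i // i ≠ j} → α) ≤ L → ∀ σ ∈ L, IsProd σ)
    {g : Perm (ι → α)} (hg : g ∈ G) (x y : ι → α) :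
    hammingDist (g x) (g y) = hammingDist x y := by
  have hpodd : Odd p := (Fact.out : p.Prime).odd_of_ne_two hgood.odd
  -- the stabiliser of two points
  let two : (ι → α) → (ι → α) → Subgroup (Perm (ι → α)) := fun a b =>
    G ⊓ stabilizer (Perm (ι → α)) a ⊓ stabilizer (Perm (ι → α)) b
  have key : ∀ a b : ι → α, ∃ B : Subgroup (Perm (ι → α)), IsPGroup p B ∧
      B ≤ two a b ⊓ prodGroup ι α ∧ (∀ Q : Subgroup (Perm (ι → α)), IsPGroup p Q → Q ≤ two a b → B ≤ Q → Q = B) ∧
      ∃ e : Fin r × ZMod p ↪ α, Good e ∧ ∀ s, at' j (cyc e s) ∈ B := by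
    intro a b
    obtain ⟨u₁, hu₁, u₂, hu₂, hu⟩ := Finset.one_lt_card.1 (show 1 < (outside e₀).card from hgood.two_le)
    obtain ⟨ρ, hρ1, hρ2⟩ : ∃ ρ : Perm α, ρ u₁ = a j ∧ (a j ≠ b j → ρ u₂ = b j) := by
      by_cases hab : a j = b j
      · exact ⟨swap u₁ (a j), swap_apply_left _ _, fun h => absurd hab h⟩
      · obtain ⟨ρ, h1, h2⟩ := exists_pair_map hu hab
        exact ⟨ρ, h1, fun _ => h2⟩
    set e := e₀.trans ρ.toEmbedding with he
    have hout : a j ∉ Set.range e ∧ b j ∉ Set.range e := by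
      have h1 : ∀ u ∈ outside e₀, ρ u ∉ Set.range e := by
        rintro u hu' ⟨x, hx⟩
        exact mem_outside.1 hu' ⟨x, ρ.injective hx⟩
      refine ⟨hρ1 ▸ h1 u₁ hu₁, ?_⟩
      by_cases hab : a j = b j
      · rw [← hab, ← hρ1]; exact h1 u₁ hu₁
      · rw [← hρ2 hab]; exact h1 u₂ hu₂
    let φ : Multiplicative (Fin r → ZMod p) →* Perm (ι → α) :=
      { toFun := fun c => at' j (shift e (Multiplicative.toAdd c))
        map_one' := by rw [toAdd_one, shift_zero, at'_one]
        map_mul' := fun c d => by rw [toAdd_mul, at'_mul, shift_mul] }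
    have hP : IsPGroup p φ.range := by
      rintro ⟨w, c, rfl⟩
      refine ⟨1, Subtype.ext ?_⟩
      rw [pow_one, SubgroupClass.coe_pow, OneMemClass.coe_one]
      show at' j (shift e _) ^ p = 1
      rw [at'_pow, shift_pow_p, at'_one]
    have hle : φ.range ≤ two a b ⊓ prodGroup ι α := by
      rintro w ⟨c, rfl⟩
      refine ⟨⟨⟨hG.at'_mem j (Or.inr (sign_shift e hpodd _)), ?_⟩, ?_⟩, isProd_at' _ _⟩
      · exact at'_fix (shift_out e _ hout.1)
      · exact at'_fix (shift_out e _ hout.2)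
    obtain ⟨B, hPB, hBmax⟩ := Finite.exists_le_maximal
      (p := fun B : Subgroup (Perm (ι → α)) => IsPGroup p B ∧ B ≤ two a b ⊓ prodGroup ι α) ⟨hP, hle⟩
    have hmem : ∀ s, at' j (cyc e s) ∈ B := fun s => hPB ⟨Multiplicative.ofAdd (Pi.single s 1), rfl⟩
    refine ⟨B, hBmax.1.1, hBmax.1.2, ?_, e, hgood.trans ρ, hmem⟩
    refine maximal_of_normalizer hBmax.1.1 hBmax.1.2
      (fun Q hQ hQle hBQ => le_antisymm (hBmax.2 ⟨hQ, hQle⟩ hBQ) hBQ) fun h hh hn => ?_
    exact ⟨hh, hG.isProd_of_conj hA (hgood.trans ρ) ih hh.1.1 fun s =>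
      (hBmax.1.2 (hn _ (hmem s))).2⟩
  obtain ⟨B, hB, hBle, -, e, he, hmem⟩ := key x y
  obtain ⟨B', hB', hB'le, hB'max, -⟩ := key (g x) (g y)
  have hQle : B.map (MulAut.conj g).toMonoidHom ≤ two (g x) (g y) := by
    rintro w ⟨b, hb, rfl⟩
    obtain ⟨⟨⟨hbG, hbx⟩, hby⟩, -⟩ := hBle hb
    refine ⟨⟨G.mul_mem (G.mul_mem hg hbG) (G.inv_mem hg), ?_⟩, ?_⟩
    · show g (b (g⁻¹ (g x))) = g x
      rw [show g⁻¹ (g x) = x from g.symm_apply_apply x, show b x = x from hbx]
    · show g (b (g⁻¹ (g y))) = g y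
      rw [show g⁻¹ (g y) = y from g.symm_apply_apply y, show b y = y from hby]
  obtain ⟨c, hc, hcc⟩ := exists_conj_mem hB' (hB'le.trans inf_le_left) hB'max
    (hB.map (MulAut.conj g).toMonoidHom) hQle
  obtain ⟨⟨hcG, hcx⟩, hcy⟩ := hc
  have hcg : IsProd (c * g) := by
    refine hG.isProd_of_conj hA he ih (G.mul_mem hcG hg) fun s => ?_
    have h := (hB'le (hcc _ ⟨_, hmem s, rfl⟩)).2
    rw [show c * g * at' j (cyc e s) * (c * g)⁻¹ =
      c * ((MulAut.conj g).toMonoidHom (at' j (cyc e s))) * c⁻¹ by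
        simp [mul_assoc]]
    exact h
  have := hcg.hammingDist_eq x y
  rwa [Perm.mul_apply, Perm.mul_apply, show c (g x) = g x from hcx, show c (g y) = g y from hcy] at this

/-- The choice of the family. -/
theorem exists_good (hm : 5 ≤ Fintype.card α) :
    ∃ (p r : ℕ) (_ : Fact p.Prime) (e : Fin r × ZMod p ↪ α), Good e := by
  set m := Fintype.card α with hmdef
  have mk : ∀ (p r : ℕ) [Fact p.Prime], r * p ≤ m →
      ∃ e : Fin r × ZMod p ↪ α, (outside e).card = m - r * p := by
    intro p r _ h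
    obtain ⟨e⟩ : Nonempty (Fin r × ZMod p ↪ α) := Function.Embedding.nonempty_of_card_le
      (by rw [Fintype.card_prod, Fintype.card_fin, ZMod.card]; exact h)
    exact ⟨e, card_outside e⟩
  by_cases h7 : m = 7
  · haveI : Fact (Nat.Prime 5) := ⟨Nat.prime_five⟩
    obtain ⟨e, he⟩ := mk 5 1 (by omega)
    exact ⟨5, 1, inferInstance, e, by omega, by omega, by omega, by omega, hm,
      Or.inr (Or.inr (Or.inl rfl))⟩
  · haveI : Fact (Nat.Prime 3) := ⟨Nat.prime_three⟩
    obtain ⟨e, he⟩ := mk 3 ((m - 2) / 3) (by omega)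
    refine ⟨3, (m - 2) / 3, inferInstance, e, by omega, by omega, by omega, by omega, hm, ?_⟩
    by_cases h2 : 2 ≤ (m - 2) / 3
    · exact Or.inr (Or.inl h2)
    · by_cases h6 : m = 6
      · exact Or.inl ⟨3, h6⟩
      · exact Or.inr (Or.inr (Or.inr ⟨rfl, by omega, by omega⟩))

omit [Fintype ι] [DecidableEq ι] in
/-- A group containing the even part of the wreath product and not the alternating group consists
of product elements. -/
theorem main (hm : 5 ≤ Fintype.card α) : ∀ (k : ℕ) (ι : Type u) [Fintype ι] [DecidableEq ι],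
    Fintype.card ι = k → ∀ G : Subgroup (Perm (ι → α)), Hyp G →
      ¬ alternatingGroup (ι → α) ≤ G → ∀ g ∈ G, IsProd g := by
  obtain ⟨p, r, hp, e, hgood⟩ := exists_good (α := α) hm
  haveI : Nonempty α := Fintype.card_pos_iff.1 (by omega)
  intro k
  induction k using Nat.strong_induction_on with
  | h k ih =>
    intro ι _ _ hk G hG hA g hg
    by_cases h1 : Fintype.card ι ≤ 1
    · exact isProd_of_subsingleton h1 g
    haveI : Nontrivial ι := Fintype.one_lt_card_iff_nontrivial.1 (by omega)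
    obtain ⟨j, -⟩ := exists_pair_ne ι
    refine isProd_of_isometry (by omega) (hG.isometry hA hgood j (fun L hL _ hLA σ hσ => ?_) hg)
    exact ih (Fintype.card {i // i ≠ j})
      (hk ▸ Fintype.card_subtype_lt (p := fun i => i ≠ j) (x := j) (by simp)) _ rfl L hL hLA σ hσ

end CfsgLib.ProdAct
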