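import Cfsg.Agent.Perm.ProdAct.Main

/-! Maximality of the product action wreath product. -/

set_option autoImplicit false
set_option linter.unusedSectionVars false

namespace CfsgLib.ProdAct

open Equiv Equiv.Perm

universe u v

variable {ι : Type u} {α : Type v} [Fintype ι] [DecidableEq ι] [Fintype α] [DecidableEq α]

/-- The even product elements satisfy the hypothesis. -/
theorem hyp_even (hm : 5 ≤ Fintype.card α) [Nontrivial ι]
    (h24 : ¬ (Fintype.card ι = 2 ∧ Fintype.card α % 4 = 2)) {G : Subgroup (Perm (ι → α))}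
    (hG : ∀ g, IsProd g → sign g = 1 → g ∈ G) : Hyp G := by
  have h2 : 2 ≤ Fintype.card ι := Fintype.one_lt_card
  refine ⟨fun τ hτ => hG _ ⟨_, _, rfl⟩ ?_, fun π => ?_⟩
  · rw [sign_pr_one, Finset.prod_pow]
    rcases Nat.even_or_odd (Fintype.card α) with hev | hodd
    · exact units_pow_of_even _ (Nat.even_pow.2 ⟨hev, by omega⟩)
    · rw [units_pow_of_odd _ hodd.pow]
      exact hτ.resolve_left (Nat.not_even_iff_odd.2 hodd)
  · rcases Nat.even_or_odd (Fintype.card α) with hev | hodd
    · refine ⟨1, hG _ ⟨_, _, rfl⟩ (sign_pr_perm hev (fun h => ?_) π)⟩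
      obtain ⟨t, ht⟩ := hev
      omega
    · rcases Int.units_eq_one_or (sign (pr π (1 : ι → Perm α))) with h | h
      · exact ⟨1, hG _ ⟨_, _, rfl⟩ h⟩
      · obtain ⟨a, b, hab⟩ := Fintype.exists_pair_of_one_lt_card (show 1 < Fintype.card α by omega)
        obtain ⟨l, -⟩ := exists_pair_ne ι
        refine ⟨Function.update 1 l (swap a b), hG _ ⟨_, _, rfl⟩ ?_⟩
        have e : pr π (Function.update (1 : ι → Perm α) l (swap a b)) = at' l (swap a b) * pr π 1 := by
          rw [at', pr_mul, one_mul]; congr 1; all_goals (funext i; simp)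
        rw [e, map_mul, h, sign_at', sign_swap hab, units_pow_of_odd _ hodd.pow]
        rfl

/-- An even permutation which is not a product element. -/
theorem exists_even_not_prod (hm : 5 ≤ Fintype.card α) [Nontrivial ι] :
    ∃ σ : Perm (ι → α), sign σ = 1 ∧ ¬ IsProd σ := by
  obtain ⟨i, l, hil⟩ := exists_pair_ne ι
  obtain ⟨a, b, hab⟩ := Fintype.exists_pair_of_one_lt_card (show 1 < Fintype.card α by omega)
  obtain ⟨c, hca, hcb⟩ := exists_avoid_two (show 3 ≤ Fintype.card α by omega) a b
  set x : ι → α := fun _ => a with hx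
  set y := Function.update x i b with hy
  set z := Function.update y l b with hz
  set w := Function.update x i c with hw
  have hxy : hammingDist x y = 1 := dist_update (by simpa [hx] using hab.symm)
  have hxz : 2 ≤ hammingDist x z := by
    unfold hammingDist
    refine le_trans ?_ (Finset.card_le_card (s := {i, l}) fun k hk => ?_)
    · rw [Finset.card_pair hil]
    · simp only [Finset.mem_insert, Finset.mem_singleton] at hk
      rcases hk with rfl | rfl
      · simp [hz, hy, hx, Function.update_of_ne hil, hab]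
      · simp [hz, hy, hx, hab]
  have hyz : y ≠ z := fun h => by rw [← h, hxy] at hxz; omega
  have hwy : w ≠ y := fun h => hcb (by simpa [hw, hy] using congrFun h i)
  have hwz : z ≠ w := fun h => hab.symm (by
    simpa [hw, hz, hx, Function.update_of_ne hil.symm] using congrFun h l)
  have hxw : x ≠ w := fun h => hca (by simpa [hw, hx] using (congrFun h i).symm)
  refine ⟨cyc3 y z w, sign_cyc3 hyz hwz, fun hp => ?_⟩
  have := hp.hammingDist_eq x y
  rw [cyc3_fst hyz hwy.symm, cyc3_other (fun h => by rw [← h, hammingDist_self] at hxy; omega)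
    (fun h => by rw [← h, hammingDist_self] at hxz; omega) hxw, hxy] at this
  omega

theorem even_maximal (hm : 5 ≤ Fintype.card α) [Nontrivial ι]
    (h24 : ¬ (Fintype.card ι = 2 ∧ Fintype.card α % 4 = 2)) :
    ∃ M : Subgroup ↥(alternatingGroup (ι → α)), IsCoatom M ∧
      ∀ σ : ↥(alternatingGroup (ι → α)), σ ∈ M ↔ IsProd (σ : Perm (ι → α)) := by
  refine ⟨(prodGroup ι α).subgroupOf (alternatingGroup (ι → α)), ⟨fun h => ?_, fun H hH => ?_⟩,
    fun σ => Iff.rfl⟩
  · obtain ⟨σ, hσ, hσ'⟩ := exists_even_not_prod (ι := ι) hm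
    exact hσ' ((Subgroup.subgroupOf_eq_top.1 h) (Equiv.Perm.mem_alternatingGroup.2 hσ))
  · set G := H.map (alternatingGroup (ι → α)).subtype with hGdef
    have hyp : Hyp G := hyp_even hm h24 fun g hg hs =>
      ⟨⟨g, Equiv.Perm.mem_alternatingGroup.2 hs⟩, hH.le hg, rfl⟩
    by_cases hA : alternatingGroup (ι → α) ≤ G
    · refine eq_top_iff.2 fun σ _ => ?_
      obtain ⟨τ, hτ, e⟩ := hA σ.2
      rwa [← Subtype.ext e]
    · exfalso
      obtain ⟨σ, hσ, hσ'⟩ := SetLike.exists_of_lt hH
      exact hσ' (main hm _ ι rfl G hyp hA σ ⟨σ, hσ, rfl⟩)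

theorem sym_maximal (hm : 5 ≤ Fintype.card α) [Nontrivial ι]
    (hodd : ∃ σ : Perm (ι → α), sign σ = -1 ∧ IsProd σ) :
    IsCoatom (prodGroup ι α) := by
  refine ⟨fun h => ?_, fun H hH => ?_⟩
  · obtain ⟨σ, -, hσ⟩ := exists_even_not_prod (ι := ι) hm
    exact hσ (mem_prodGroup.1 (h ▸ Subgroup.mem_top σ))
  · have hyp : Hyp H := ⟨fun τ _ => hH.le ⟨_, _, rfl⟩, fun π => ⟨1, hH.le ⟨_, _, rfl⟩⟩⟩
    by_cases hA : alternatingGroup (ι → α) ≤ H
    · refine eq_top_iff.2 fun g _ => ?_
      obtain ⟨σ, hs, hσ⟩ := hodd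
      rcases Int.units_eq_one_or (sign g) with h | h
      · exact hA (Equiv.Perm.mem_alternatingGroup.2 h)
      · have : σ * g ∈ H := hA (Equiv.Perm.mem_alternatingGroup.2 (by rw [map_mul, hs, h]; rfl))
        have := H.mul_mem (H.inv_mem (hH.le hσ)) this
        rwa [inv_mul_cancel_left] at this
    · exfalso
      obtain ⟨σ, hσ, hσ'⟩ := SetLike.exists_of_lt hH
      exact hσ' (main hm _ ι rfl H hyp hA σ hσ)

end CfsgLib.ProdAct
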