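import Cfsg.Agent.Perm.ProdAct.Tools

/-! A group with the even part of the product action wreath product is primitive. -/

set_option autoImplicit false

namespace CfsgLib.ProdAct

open Equiv Equiv.Perm MulAction
open scoped Pointwise

universe u v

variable {ι : Type u} {α : Type v} [Fintype ι] [DecidableEq ι] [Fintype α] [DecidableEq α]
  {G : Subgroup (Perm (ι → α))}

theorem Hyp.exists_mem_map (hG : Hyp G) (hm : 3 ≤ Fintype.card α) (x y : ι → α) :
    ∃ g ∈ G, g x = y := by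
  choose ρ hρ hρx using fun i => exists_even_map hm (x i) (y i)
  exact ⟨pr 1 ρ, hG.pair ρ (Or.inr (Finset.prod_eq_one fun i _ => hρ i)), funext hρx⟩

theorem Hyp.isPreprimitive (hG : Hyp G) (hm : 5 ≤ Fintype.card α) [Nontrivial ι] :
    IsPreprimitive G (ι → α) := by
  haveI : IsPretransitive G (ι → α) := ⟨fun x y => by
    obtain ⟨g, hg, hgx⟩ := hG.exists_mem_map (by omega) x y
    exact ⟨⟨g, hg⟩, hgx⟩⟩
  refine ⟨fun {B} hB => ?_⟩
  rw [IsTrivialBlock, or_iff_not_imp_left]
  intro hs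
  rw [Set.not_subsingleton_iff] at hs
  obtain ⟨x, hx, y, hy, hxy⟩ := hs
  obtain ⟨i, hi⟩ := Function.ne_iff.1 hxy
  let R : (ι → α) → (ι → α) → Prop := fun a b => ∃ g : G, a ∈ g • B ∧ b ∈ g • B
  have symm : ∀ a b, R a b → R b a := fun a b ⟨g, h1, h2⟩ => ⟨g, h2, h1⟩
  have trans : ∀ a b c, R a b → R b c → R a c := by
    rintro a b c ⟨g, h1, h2⟩ ⟨g', h3, h4⟩
    refine ⟨g, h1, ?_⟩
    by_contra hc
    have hne : g • B ≠ g' • B := fun e => hc (e ▸ h4)
    exact Set.disjoint_left.1 (hB hne) h2 h3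
  have refl : ∀ a, R a a := fun a => by
    obtain ⟨g, hg⟩ := exists_smul_eq G x a
    exact ⟨g, hg ▸ Set.smul_mem_smul_set hx, hg ▸ Set.smul_mem_smul_set hx⟩
  have inv : ∀ w ∈ G, ∀ a b, R a b → R (w a) (w b) := by
    rintro w hw a b ⟨g, h1, h2⟩
    refine ⟨⟨w, hw⟩ * g, ?_, ?_⟩ <;> rw [mul_smul]
    exacts [Set.smul_mem_smul_set (a := (⟨w, hw⟩ : G)) h1,
      Set.smul_mem_smul_set (a := (⟨w, hw⟩ : G)) h2]
  have hxyR : R x y := ⟨1, by rwa [one_smul], by rwa [one_smul]⟩
  obtain ⟨c, hc1, hc2⟩ := exists_avoid_two (show 3 ≤ Fintype.card α by omega) (x i) (y i)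
  obtain ⟨d, hd1, hd2, hd3⟩ := exists_avoid_three (show 4 ≤ Fintype.card α by omega) (x i) (y i) c
  have hstep : R x (Function.update x i c) := by
    have := inv _ (hG.at'_mem i (Or.inr (sign_cyc3 hc1.symm hd3.symm))) x y hxyR
    rw [at'_apply, cyc3_fst hc1.symm hd1.symm, at'_fix (cyc3_other hi.symm hc2.symm hd2.symm)] at this
    exact symm _ _ (trans _ _ _ this (symm _ _ hxyR))
  have key : ∀ a b, R a b := by
    intro a b
    refine rel_of_lines R (fun _ => True) (fun _ => True) (fun a _ => refl a) trans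
      (fun _ _ _ _ _ => trivial) (fun _ _ _ _ _ h => absurd trivial h)
      (fun a o e _ _ he => ?_) a b trivial trivial
    obtain ⟨τ, h1, h2, -⟩ := exists_line_map x a i o hc1 he
    obtain ⟨l, hl⟩ := exists_ne o
    obtain ⟨p, hp⟩ := exists_avoid {a l} (by simp; omega)
    obtain ⟨q, hq⟩ := exists_avoid {a l, p} (lt_of_le_of_lt Finset.card_le_two (by omega))
    simp only [Finset.mem_singleton, Finset.mem_insert, not_or] at hp hq
    obtain ⟨δ, hδ, hw⟩ := hG.lift (swap i o) τ l (Ne.symm hq.2)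
    have hfix : δ (a l) = a l := by
      rcases hδ with rfl | rfl
      · rfl
      · exact swap_apply_of_ne_of_ne (Ne.symm hp) (Ne.symm hq.1)
    have := inv _ hw _ _ hstep
    rwa [Perm.mul_apply, Perm.mul_apply, h1, h2, at'_fix hfix,
      at'_fix (by rwa [Function.update_of_ne hl])] at this
  refine Set.eq_univ_of_forall fun z => ?_
  obtain ⟨g, h1, h2⟩ := key x z
  by_contra hz
  have hne : g • B ≠ (1 : G) • B := fun e => hz (by rw [e, one_smul] at h2; exact h2)
  exact Set.disjoint_left.1 (hB hne) h1 (by rwa [one_smul])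

end CfsgLib.ProdAct
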