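import Cfsg.Agent.Perm.ProdAct.Fibre
import Cfsg.Agent.Perm.OnePointMeet

/-! An element fixing all points whose `j`-th coordinate avoids a small set of values acts in the
coordinate `j` alone. -/

set_option autoImplicit false
set_option linter.unusedSectionVars false
set_option maxHeartbeats 400000

namespace CfsgLib.ProdAct

open Equiv Equiv.Perm MulAction SubMulAction
open scoped Pointwise

universe u v

variable {ι : Type u} {α : Type v} [Fintype ι] [DecidableEq ι] [Fintype α] [DecidableEq α]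
  {G : Subgroup (Perm (ι → α))}

/-- The elements of `G` fixing all points outside the region. -/
def Hyp.inside (_ : Hyp G) (j : ι) (U : Finset α) : Subgroup (Perm (ι → α)) where
  carrier := {w | w ∈ G ∧ ∀ z : ι → α, z j ∉ U → w z = z}
  one_mem' := ⟨G.one_mem, fun z _ => rfl⟩
  mul_mem' := fun {a b} ha hb => ⟨G.mul_mem ha.1 hb.1,
    fun z hz => by rw [Perm.mul_apply, hb.2 z hz, ha.2 z hz]⟩
  inv_mem' := fun {a} ha => ⟨G.inv_mem ha.1, fun z hz => Perm.inv_eq_iff_eq.2 (ha.2 z hz).symm⟩

theorem inside_apply_mem (hG : Hyp G) {j : ι} {U : Finset α} {w : Perm (ι → α)}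
    (hw : w ∈ hG.inside j U) {z : ι → α} (hz : z j ∈ U) : w z j ∈ U := by
  by_contra h
  have := w.injective (hw.2 _ h)
  exact h (this.symm ▸ hz)

/-- Elements normalising the region: the product elements preserving `U` in `j`. -/
theorem Hyp.inside_norm (hG : Hyp G) {j : ι} {U : Finset α} {a b : α} (hab : a ≠ b) (ha : a ∉ U)
    (hb : b ∉ U) (π : Perm ι) (hπ : π j = j) (τ : ι → Perm α) (hτ : ∀ x, τ j x ∈ U ↔ x ∈ U) :
    ∃ W ∈ G, (∀ z : ι → α, z j ∈ U → W z = pr π τ z) ∧
      (∃ δ : Perm α, ∀ z, W z j = δ (z j)) ∧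
      ∀ w ∈ hG.inside j U, W * w * W⁻¹ ∈ hG.inside j U := by
  obtain ⟨δ, hδ, hW⟩ := hG.lift π τ j hab
  have hl0 : ∀ z, pr π τ z j = τ j (z j) := fun z => by
    rw [pr_apply, show π.symm j = j from π.injective (by rw [π.apply_symm_apply, hπ])]
  have hWl : ∀ z, (at' j δ * pr π τ) z j = δ (τ j (z j)) := fun z => by
    rw [Perm.mul_apply, at'_apply_self, hl0]
  refine ⟨_, hW, fun z hz => ?_, ⟨δ * τ j, hWl⟩,
    fun w hw => ⟨G.mul_mem (G.mul_mem hW hw.1) (G.inv_mem hW), fun z hz => ?_⟩⟩
  · rw [Perm.mul_apply]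
    refine at'_fix (swap_fix_of hδ ?_ ?_) <;> rw [hl0] <;> intro e
    · exact ha (e ▸ (hτ _).2 hz)
    · exact hb (e ▸ (hτ _).2 hz)
  · obtain ⟨z₀, rfl⟩ := (at' j δ * pr π τ).surjective z
    rw [hWl, swap_mem_iff (iff_of_false ha hb) hδ, hτ] at hz
    rw [Perm.mul_apply _ (at' j δ * pr π τ)⁻¹, Perm.mul_apply,
      show (at' j δ * pr π τ)⁻¹ ((at' j δ * pr π τ) z₀) = z₀ from Equiv.symm_apply_apply _ _,
      hw.2 z₀ hz]

theorem exists_two_outside (U : Finset α) (h : U.card + 2 ≤ Fintype.card α) :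
    ∃ a b : α, a ≠ b ∧ a ∉ U ∧ b ∉ U := by
  obtain ⟨a, b, ha, hb, hab⟩ := Finset.one_lt_card_iff.1
    (show 1 < Uᶜ.card by rw [Finset.card_compl]; omega)
  exact ⟨a, b, hab, Finset.mem_compl.1 ha, Finset.mem_compl.1 hb⟩

/-- A two-point map preserving `U`. -/
theorem exists_pair_map_mem {U : Finset α} {a b x y : α} (hab : a ≠ b) (hxy : x ≠ y)
    (ha : a ∈ U) (hb : b ∈ U) (hx : x ∈ U) (hy : y ∈ U) :
    ∃ ρ : Perm α, ρ a = x ∧ ρ b = y ∧ ∀ z, ρ z ∈ U ↔ z ∈ U := by
  have h1 : ∀ z, swap a x z ∈ U ↔ z ∈ U := swap_mem_iff (iff_of_true ha hx) (Or.inr rfl)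
  refine ⟨swap (swap a x b) y * swap a x, ?_, by simp, fun z => ?_⟩
  · rw [Perm.mul_apply, swap_apply_left, swap_apply_of_ne_of_ne _ hxy]
    intro h
    exact hab ((swap a x).injective (by rw [swap_apply_left]; exact h))
  · rw [Perm.mul_apply, swap_mem_iff (iff_of_true ((h1 b).2 hb) hy) (Or.inr rfl), h1]

/-- A region on which `G` acts transitively and which is half of all points. -/
theorem Hyp.giant_of_half (hG : Hyp G) (hm : 5 ≤ Fintype.card α) [Nontrivial ι] {j : ι}
    {U : Finset α} (hU : 2 * U.card = Fintype.card α) {t : α} (ht : t ∉ U)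
    (htr : ∀ a b : ι → α, a j ∈ U → b j ∈ U → ∃ w ∈ hG.inside j U, w a = b)
    {h : Perm (ι → α)} (hh : h ∈ hG.inside j U) {i : ι} (hi : i ≠ j) {x : ι → α}
    (hx : h x i ≠ x i) : alternatingGroup (ι → α) ≤ G := by
  by_contra hA
  have hu : 3 ≤ U.card := by omega
  have hev : Even (Fintype.card α) := ⟨U.card, by omega⟩
  set D := insert t U with hD
  have hDc : D.card = U.card + 1 := Finset.card_insert_of_notMem ht
  -- every set of `U.card` values in `D` carries a transitive group
  have htr' : ∀ u₀ ∈ D, ∀ a b : ι → α, a j ∈ D.erase u₀ → b j ∈ D.erase u₀ →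
      ∃ w ∈ hG.inside j (D.erase u₀), w a = b := by
    intro u₀ hu₀ a b ha hb
    set c := at' j (swap u₀ t) with hc
    have hcG : c ∈ G := hG.at'_mem j (Or.inl hev)
    have key : ∀ y : α, swap u₀ t y ∈ U ↔ y ∈ D.erase u₀ := by
      intro y
      rw [Finset.mem_erase, hD, Finset.mem_insert]
      rcases eq_or_ne y u₀ with rfl | h1
      · simp [ht]
      · rcases eq_or_ne y t with rfl | h2
        · rw [swap_apply_right]
          rw [hD, Finset.mem_insert] at hu₀
          have : u₀ ∈ U := hu₀.resolve_left (Ne.symm h1)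
          simp [this, h1]
        · simp [swap_apply_of_ne_of_ne h1 h2, h1, h2]
    have hca : ∀ z : ι → α, c z j = swap u₀ t (z j) := fun z => at'_apply_self _ _ _
    obtain ⟨w, hw, hwa⟩ := htr (c a) (c b) (by rw [hca, key]; exact ha) (by rw [hca, key]; exact hb)
    have hcc : c⁻¹ = c := by rw [hc, at'_inv, swap_inv]
    refine ⟨c * w * c, ⟨G.mul_mem (G.mul_mem hcG hw.1) hcG, fun z hz => ?_⟩, ?_⟩
    · rw [Perm.mul_apply, Perm.mul_apply, hw.2 (c z) (by rw [hca, key]; exact hz)]
      conv_lhs => arg 1; rw [← hcc]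
      exact Equiv.symm_apply_apply _ _
    · rw [Perm.mul_apply, Perm.mul_apply, hwa]
      conv_lhs => arg 1; rw [← hcc]
      exact Equiv.symm_apply_apply _ _
  have hsub : ∀ u₀, hG.inside j (D.erase u₀) ≤ hG.inside j D := fun u₀ w hw =>
    ⟨hw.1, fun z hz => hw.2 z fun h => hz (Finset.mem_of_mem_erase h)⟩
  have hh' : h ∈ hG.inside j D := ⟨hh.1, fun z hz => hh.2 z fun h' => hz (Finset.mem_insert_of_mem h')⟩
  -- if the fibres over `D` are blocks then `h` acts in `j` alone
  have nofib : ¬ ∀ a b : ι → α, a j ∈ D → a j = b j → h a j = h b j := by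
    intro hf
    let f : α → α := fun a => h (fun _ => a) j
    have key : ∀ z : ι → α, h z j = f (z j) := by
      intro z
      by_cases hz : z j ∈ D
      · exact hf z _ hz rfl
      · show h z j = h (fun _ => z j) j
        rw [hh'.2 z hz, hh'.2 (fun _ => z j) hz]
    have hf' : Function.Surjective f := fun b => by
      obtain ⟨z, hz⟩ := h.surjective (fun _ => b)
      exact ⟨z j, by rw [← key, hz]⟩
    set σ := Equiv.ofBijective f (Finite.surjective_iff_bijective.1 hf') with hσ
    have h1 : at' j σ⁻¹ * h = 1 := by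
      refine hG.fibre_trivial hm hA (G.mul_mem (hG.at'_mem j (Or.inl hev)) hh.1) (l := j)
        (fun z => ?_) (v := t) fun z hz => ?_
      · rw [Perm.mul_apply, at'_apply_self, key]
        exact σ.symm_apply_apply (z j)
      · rw [Perm.mul_apply, hh.2 z (hz ▸ ht)]
        refine at'_fix ?_
        have := key z
        rw [hh.2 z (hz ▸ ht)] at this
        conv_lhs => rw [this]
        exact σ.symm_apply_apply (z j)
    apply hx
    rw [show h = (at' j σ⁻¹)⁻¹ from eq_inv_of_mul_eq_one_right h1, at'_inv, at'_apply_ne hi]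
  set L := hG.inside j D
  obtain ⟨a₁, a₂, haa, ha₁, ha₂⟩ := exists_two_outside D (by omega)
  have Etot : ∀ a b : ι → α, a j ∈ D → a j = b j → a ≠ b →
      (∀ g ∈ L, g a j = g b j) → ∀ c d : ι → α, c j ∈ D → c j = d j → h c j = h d j := by
    intro a b ha hab hne hE
    obtain ⟨i₀, hi₀⟩ := Function.ne_iff.1 hne
    have inv : ∀ π τ, π j = j → (∀ y, τ j y ∈ D ↔ y ∈ D) → ∀ c d : ι → α, c j ∈ D → d j ∈ D →
        (∀ g ∈ L, g c j = g d j) → ∀ g ∈ L, g (pr π τ c) j = g (pr π τ d) j := by
      intro π τ hπ hτ c d hc hd hcd g hg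
      obtain ⟨W, hW, hWz, ⟨δ, hδ⟩, hWn⟩ := hG.inside_norm haa ha₁ ha₂ π hπ τ hτ
      obtain ⟨W', hW', -, -, -⟩ := hG.inside_norm haa ha₁ ha₂ π hπ τ hτ
      have hg' : W⁻¹ * g * W ∈ L := by
        refine ⟨G.mul_mem (G.mul_mem (G.inv_mem hW) hg.1) hW, fun z hz => ?_⟩
        rw [Perm.mul_apply, Perm.mul_apply, Perm.inv_eq_iff_eq]
        refine hg.2 _ fun h' => hz ?_
        -- `W` maps the region onto itself
        let Wr : Finset (ι → α) := (region j D).image W
        have hWr : Wr = region j D := by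
          refine Finset.eq_of_subset_of_card_le (fun y hy => ?_)
            (by rw [Finset.card_image_of_injective _ W.injective])
          obtain ⟨y₀, hy₀, rfl⟩ := Finset.mem_image.1 hy
          rw [mem_region] at hy₀ ⊢
          rw [hWz y₀ hy₀, pr_apply, show π.symm j = j from π.injective
            (by rw [π.apply_symm_apply, hπ]), hτ]
          exact hy₀
        have : W z ∈ Wr := by rw [hWr, mem_region]; exact h'
        obtain ⟨y₀, hy₀, he⟩ := Finset.mem_image.1 this
        rw [← W.injective he]; exact mem_region.1 hy₀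
      rw [← hWz c hc, ← hWz d hd]
      have := congrArg δ (hcd _ hg')
      rw [← hδ, ← hδ] at this
      simpa using this
    have one : ∀ c d : ι → α, c j = a j → d j = a j → ∀ g ∈ L, g c j = g d j :=
      rel_spread (by omega) (fun c d => ∀ g ∈ L, g c j = g d j)
        (fun c d h g hg => (h g hg).symm) (fun c d e h h' g hg => (h g hg).trans (h' g hg))
        (fun c _ g _ => rfl)
        (fun π τ c d hπ hτ hc hd h => inv π τ hπ (fun y => by rw [hτ]; rfl) c d (hc ▸ ha) (hd ▸ ha) h)
        rfl hab.symm (fun e => hi₀ (by rw [e, hab])) hi₀ hE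
    intro c d hc hcd
    set ρ := swap (a j) (c j) with hρ
    have hρD : ∀ y, ρ y ∈ D ↔ y ∈ D := swap_mem_iff (iff_of_true ha hc) (Or.inr rfl)
    have e : ∀ z : ι → α, pr 1 (Function.update (1 : ι → Perm α) j ρ) z = at' j ρ z := fun z => rfl
    have := inv 1 (Function.update 1 j ρ) rfl (fun y => by rw [Function.update_self]; exact hρD y)
      (at' j ρ c) (at' j ρ d) (by rw [at'_apply_self, hρD]; exact hc)
      (by rw [at'_apply_self, hρD, ← hcd]; exact hc)
      (one _ _ (by rw [at'_apply_self, hρ, swap_apply_right])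
        (by rw [at'_apply_self, hρ, ← hcd, swap_apply_right])) h hh'
    rwa [e, e, ← Perm.mul_apply (at' j ρ), ← Perm.mul_apply (at' j ρ), at'_mul, hρ, swap_mul_self,
      at'_one] at this
  -- hence the group of `D` is primitive
  set s : Set (ι → α) := ((region j D : Finset (ι → α)) : Set (ι → α))ᶜ with hs
  have hmem : ∀ g : fixingSubgroup G s, ((g : G) : Perm (ι → α)) ∈ L := fun g =>
    ⟨(g : G).2, fun z hz => (mem_fixingSubgroup_iff G).1 g.2 z
      (by rw [hs, Set.mem_compl_iff, Finset.mem_coe, mem_region]; exact hz)⟩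
  have hlift : ∀ w ∈ L, ∃ g : fixingSubgroup G s, ((g : G) : Perm (ι → α)) = w := fun w hw =>
    ⟨⟨⟨w, hw.1⟩, (mem_fixingSubgroup_iff G).2 fun z hz => hw.2 z fun h' => hz (mem_region.2 h')⟩, rfl⟩
  have hval : ∀ z : ofFixingSubgroup G s, (z : ι → α) j ∈ D := fun z => by
    have := Set.notMem_compl_iff.1 z.2
    exact mem_region.1 this
  haveI : IsPretransitive (fixingSubgroup G s) (ofFixingSubgroup G s) := by
    refine ⟨fun a b => ?_⟩
    obtain ⟨u₀, hu₀⟩ := (Finset.card_pos.1 (show 0 < (D \ {(a : ι → α) j, (b : ι → α) j}).card by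
      have := Finset.le_card_sdiff {(a : ι → α) j, (b : ι → α) j} D
      have := Finset.card_le_two (a := (a : ι → α) j) (b := (b : ι → α) j)
      omega))
    simp only [Finset.mem_sdiff, Finset.mem_insert, Finset.mem_singleton, not_or] at hu₀
    obtain ⟨w, hw, hwab⟩ := htr' u₀ hu₀.1 a b
      (Finset.mem_erase.2 ⟨Ne.symm hu₀.2.1, hval a⟩) (Finset.mem_erase.2 ⟨Ne.symm hu₀.2.2, hval b⟩)
    obtain ⟨g, hg⟩ := hlift w (hsub u₀ hw)
    exact ⟨g, Subtype.ext (show ((g : G) : Perm (ι → α)) a = b by rw [hg, hwab])⟩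
  have hprim : IsPreprimitive (fixingSubgroup G s) (ofFixingSubgroup G s) := by
    refine ⟨fun {B} hB => ?_⟩
    rw [IsTrivialBlock, or_iff_not_imp_left, Set.not_subsingleton_iff]
    rintro ⟨a, ha, b, hb, hab⟩
    have hab' : (a : ι → α) ≠ b := fun e => hab (Subtype.ext e)
    by_cases hall : ∀ g ∈ L, g (a : ι → α) j = g (b : ι → α) j
    · exact absurd (Etot _ _ (hval a) (by simpa using hall 1 L.one_mem) hab' hall) nofib
    · push Not at hall
      obtain ⟨g₀, hg₀, hne⟩ := hall
      obtain ⟨g, hg⟩ := hlift g₀ hg₀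
      have hB' := hB.translate g
      set u₀ := (↑(g • b) : ι → α) j with hu₀
      have hga : (↑(g • a) : ι → α) j ∈ D.erase u₀ := by
        refine Finset.mem_erase.2 ⟨?_, hval _⟩
        show ((g : G) : Perm (ι → α)) a j ≠ ((g : G) : Perm (ι → α)) b j
        rw [hg]; exact hne
      have hbig : ∀ z : ofFixingSubgroup G s, (z : ι → α) j ∈ D.erase u₀ → z ∈ g • B := by
        intro z hz
        obtain ⟨w, hw, hwz⟩ := htr' u₀ (hval _) _ z hga hz
        obtain ⟨g', hg'⟩ := hlift w (hsub u₀ hw)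
        have hfb : g' • (g • b) = g • b := Subtype.ext (by
          show ((g' : G) : Perm (ι → α)) _ = _
          rw [hg']; exact hw.2 _ (Finset.notMem_erase u₀ D))
        have hgB : g' • (g • B) = g • B :=
          hB'.smul_eq_of_mem (Set.smul_mem_smul_set hb) (by rw [hfb]; exact Set.smul_mem_smul_set hb)
        have hgz : g' • (g • a) = z := Subtype.ext (by
          show ((g' : G) : Perm (ι → α)) _ = _
          rw [hg']; exact hwz)
        rw [← hgB, ← hgz]
        exact Set.smul_mem_smul_set (Set.smul_mem_smul_set ha)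
      have hfull : g • B = Set.univ := by
        refine hB'.eq_univ_of_card_lt ?_
        have hc1 : (Subtype.val '' (g • B)).ncard = (g • B).ncard :=
          Set.ncard_image_of_injective _ Subtype.val_injective
        have hsub' : (↑(region j (D.erase u₀)) : Set (ι → α)) ⊆ Subtype.val '' (g • B) := by
          intro z hz
          rw [Finset.mem_coe, mem_region] at hz
          refine ⟨⟨z, ?_⟩, hbig _ hz, rfl⟩
          show z ∉ s
          rw [hs, Set.mem_compl_iff, not_not, Finset.mem_coe, mem_region]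
          exact Finset.mem_of_mem_erase hz
        have hle := Set.ncard_le_ncard hsub'
        rw [hc1, Set.ncard_coe_finset, card_region, Finset.card_erase_of_mem (hval _), hDc,
          Nat.add_sub_cancel] at hle
        have htot : Nat.card (ofFixingSubgroup G s) = (region j D).card := by
          rw [← Nat.card_eq_finsetCard]
          exact Nat.card_congr (Equiv.subtypeEquivRight fun z => by
            rw [mem_ofFixingSubgroup_iff, hs, Set.mem_compl_iff, not_not, Finset.mem_coe])
        rw [htot, card_region, hDc]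
        have hpos : 0 < Fintype.card α ^ (Fintype.card ι - 1) := Nat.pow_pos (by omega)
        have : (U.card + 1) * Fintype.card α ^ (Fintype.card ι - 1) <
            (U.card * 2) * Fintype.card α ^ (Fintype.card ι - 1) :=
          Nat.mul_lt_mul_of_pos_right (by omega) hpos
        rw [Nat.mul_right_comm] at this
        omega
      refine Set.eq_univ_of_forall fun z => ?_
      have : g • z ∈ g • B := hfull ▸ Set.mem_univ _
      rwa [Set.smul_mem_smul_set_iff] at this
  set d' := Fintype.card α ^ (Fintype.card ι - 1) with hd'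
  have hd'2 : 2 ≤ d' := Nat.one_lt_pow (by have := Fintype.one_lt_card (α := ι); omega) (by omega)
  have hsc : s.ncard = (U.card - 1) * d' := by
    rw [hs, Set.ncard_compl, Set.ncard_coe_finset, Nat.card_eq_fintype_card, card_points j,
      card_region, hDc, ← Nat.sub_mul]
    congr 1
    omega
  have htot2 : Fintype.card (ι → α) = 2 * U.card * d' := by rw [card_points j, hd', hU]
  have hb1 : 2 * d' ≤ (U.card - 1) * d' := Nat.mul_le_mul_right _ (by omega)
  have hb2 : (U.card - 1) * d' + 2 * d' ≤ 2 * U.card * d' := by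
    rw [← add_mul]; exact Nat.mul_le_mul_right _ (by omega)
  have hpG := hG.isPreprimitive hm
  obtain ⟨k, hk, hk2, hmul⟩ : ∃ k, k ≤ Fintype.card (ι → α) ∧ 2 * d' ≤ k ∧
      IsMultiplyPretransitive G (ι → α) k := by
    refine ⟨(U.card - 1) * d' - 1 + 2, by omega, by omega, ?_⟩
    have := hpG.isMultiplyPreprimitive (s := s) (n := (U.card - 1) * d' - 1) (by omega)
      (by rw [Nat.card_eq_fintype_card]; omega) hprim
    exact this.isMultiplyPretransitive
  obtain ⟨v, hv⟩ : U.Nonempty := Finset.card_pos.1 (by omega)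
  have hvt : v ≠ t := fun e => ht (e ▸ hv)
  set g₁ := at' j (swap v t) with hg₁
  set S := region j ({v, t} : Finset α) with hS
  have hScard : S.card = 2 * d' := by rw [hS, card_region, Finset.card_pair hvt]
  have hsupp : ∀ z, g₁ z ≠ z → z ∈ S := by
    intro z hz
    rw [hS, mem_region]
    by_contra h'
    simp only [Finset.mem_insert, Finset.mem_singleton, not_or] at h'
    exact hz (at'_fix (swap_apply_of_ne_of_ne h'.1 h'.2))
  set c : ι → α := fun _ => v with hc
  have hcS : c ∈ S := by rw [hS, mem_region]; simp [hc]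
  obtain ⟨g, hgc, hgo⟩ := CfsgLib.MarggraffAlt.exists_smul_pattern (G := G) (k := k) hk
    (I := {c}) (U := S.erase c) (I' := {c}) (U' := Sᶜ)
    (Finset.disjoint_singleton_left.2 (Finset.notMem_erase c S))
    (Finset.disjoint_singleton_left.2 fun h' => Finset.mem_compl.1 h' hcS)
    (by rw [Finset.card_singleton, Finset.card_erase_of_mem hcS]; omega)
    le_rfl (by rw [Finset.card_erase_of_mem hcS, Finset.card_compl]; omega)
  have hgc' : (g : Perm (ι → α)) c = c := Finset.mem_singleton.1 (hgc c (Finset.mem_singleton_self c))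
  set g₂ := (g : Perm (ι → α)) * g₁ * (g : Perm (ι → α))⁻¹ with hg₂
  have hg₁c : g₁ c ≠ c := by
    intro e
    have := congrFun e j
    rw [hg₁, at'_apply_self, hc, swap_apply_left] at this
    exact hvt this.symm
  have h3 := CfsgLib.OnePointMeet.isThreeCycle_commutator g₁ g₂ c hg₁c
    (by
      rw [hg₂, Perm.mul_apply, Perm.mul_apply, Perm.inv_eq_iff_eq.2 hgc'.symm]
      exact fun e => hg₁c ((g : Perm (ι → α)).injective (e.trans hgc'.symm)))
    (fun z hz1 hz2 => by
      have hzS := hsupp z hz1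
      obtain ⟨z₀, rfl⟩ := (g : Perm (ι → α)).surjective z
      rw [hg₂, Perm.mul_apply, Perm.mul_apply] at hz2
      have h0 : g₁ z₀ ≠ z₀ := fun e => hz2 (by
        rw [show (g : Perm (ι → α))⁻¹ ((g : Perm (ι → α)) z₀) = z₀ from Equiv.symm_apply_apply _ _, e])
      by_contra hne
      have hz0 : z₀ ∈ S.erase c := Finset.mem_erase.2 ⟨fun e => hne (by rw [e, hgc']), hsupp _ h0⟩
      exact Finset.mem_compl.1 (hgo z₀ hz0) hzS)
  have hg₁G : g₁ ∈ G := hG.at'_mem j (Or.inl hev)
  exact hA (Equiv.Perm.alternatingGroup_le_of_isPreprimitive_of_isThreeCycle_mem hpG h3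
    (G.mul_mem (G.mul_mem (G.mul_mem hg₁G (G.mul_mem (G.mul_mem g.2 hg₁G) (G.inv_mem g.2)))
      (G.inv_mem hg₁G)) (G.inv_mem (G.mul_mem (G.mul_mem g.2 hg₁G) (G.inv_mem g.2)))))

/-- The region lemma. -/
theorem Hyp.region_fix (hG : Hyp G) (hm : 5 ≤ Fintype.card α) [Nontrivial ι]
    (hA : ¬ alternatingGroup (ι → α) ≤ G) {j : ι} {U : Finset α} (h1 : U.Nonempty)
    (h2 : 2 * U.card ≤ Fintype.card α) {h : Perm (ι → α)} (hh : h ∈ G)
    (hfix : ∀ z : ι → α, z j ∉ U → h z = z) : ∃ f : Perm α, h = at' j f := by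
  by_cases hall : ∀ i, i ≠ j → ∀ z, h z i = z i
  · exact hG.eq_at' hm hA hh hall
  exfalso
  push Not at hall
  obtain ⟨i, hi, x, hxi⟩ := hall
  have hhK : h ∈ hG.inside j U := ⟨hh, hfix⟩
  have hxU : x j ∈ U := by by_contra h'; exact hxi (by rw [hfix x h'])
  obtain ⟨a₁, a₂, haa, ha₁, ha₂⟩ := exists_two_outside U (by omega)
  let R : (ι → α) → (ι → α) → Prop := fun a b => ∃ w ∈ hG.inside j U, w a = b
  have rs : ∀ a b, R a b → R b a := by
    rintro a b ⟨w, hw, rfl⟩; exact ⟨_, (hG.inside j U).inv_mem hw, Equiv.symm_apply_apply _ _⟩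
  have rt : ∀ a b c, R a b → R b c → R a c := by
    rintro a b c ⟨w, hw, rfl⟩ ⟨w', hw', rfl⟩; exact ⟨_, (hG.inside j U).mul_mem hw' hw, rfl⟩
  have inv : ∀ π τ, π j = j → (∀ y, τ j y ∈ U ↔ y ∈ U) → ∀ a b, a j ∈ U → R a b →
      R (pr π τ a) (pr π τ b) := by
    rintro π τ hπ hτ a b ha ⟨w, hw, rfl⟩
    obtain ⟨W, -, hWz, -, hWn⟩ := hG.inside_norm haa ha₁ ha₂ π hπ τ hτ
    refine ⟨_, hWn w hw, ?_⟩
    rw [← hWz a ha, ← hWz _ (inside_apply_mem hG hw ha), Perm.mul_apply, Perm.mul_apply,
      show W⁻¹ (W a) = a from Equiv.symm_apply_apply _ _]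
  obtain ⟨c, hc1, hc2⟩ := exists_avoid_two (show 3 ≤ Fintype.card α by omega) (x i) (h x i)
  have hstep : R (Function.update x i c) x := by
    have h0 : R x (h x) := ⟨h, hhK, rfl⟩
    have := inv 1 (Function.update 1 i (swap (x i) c)) rfl
      (fun y => by rw [Function.update_of_ne hi.symm]; rfl) x (h x) hxU h0
    change R (at' i (swap (x i) c) x) (at' i (swap (x i) c) (h x)) at this
    rw [at'_apply, swap_apply_left, at'_fix (swap_apply_of_ne_of_ne hxi hc2.symm)] at this
    exact rt _ _ _ this (rs _ _ h0)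
  have one : ∀ a b : ι → α, a j = x j → b j = x j → R a b :=
    rel_spread (by omega) R rs rt (fun a _ => ⟨1, (hG.inside j U).one_mem, rfl⟩)
      (fun π τ a b hπ hτ ha _ h' => inv π τ hπ (fun y => by rw [hτ]; rfl) a b (ha ▸ hxU) h')
      (show Function.update x i c j = x j from Function.update_of_ne hi.symm _ _) rfl hi
      (by rw [Function.update_self]; exact hc1) hstep
  have hfib : ∀ a b : ι → α, a j ∈ U → a j = b j → R a b := by
    intro a b ha hab
    have hρ := swap_mem_iff (iff_of_true hxU ha) (V := U) (δ := swap (x j) (a j)) (Or.inr rfl)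
    have := inv 1 (Function.update 1 j (swap (x j) (a j))) rfl
      (fun y => by rw [Function.update_self]; exact hρ y)
      (at' j (swap (x j) (a j)) a) (at' j (swap (x j) (a j)) b)
      (by rw [at'_apply_self, hρ]; exact ha)
      (one _ _ (by rw [at'_apply_self, swap_apply_right]) (by rw [at'_apply_self, ← hab, swap_apply_right]))
    change R ((at' j (swap (x j) (a j))) ((at' j (swap (x j) (a j))) a))
      ((at' j (swap (x j) (a j))) ((at' j (swap (x j) (a j))) b)) at this
    rwa [← Perm.mul_apply, ← Perm.mul_apply, at'_mul, swap_mul_self, at'_one] at this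
  have hTne : ∃ t, t ∉ U := ⟨a₁, ha₁⟩
  by_cases hj : ∀ w ∈ hG.inside j U, ∀ z, w z j = z j
  · exact hxi (by rw [hG.fibre_trivial hm hA hh (hj h hhK) fun z hz => hfix z (hz ▸ ha₁)]; rfl)
  push Not at hj
  obtain ⟨w, hw, z₀, hz₀⟩ := hj
  have hz₀U : z₀ j ∈ U := by by_contra h'; exact hz₀ (by rw [hw.2 z₀ h'])
  have hwzU := inside_apply_mem hG hw hz₀U
  have htr : ∀ a b : ι → α, a j ∈ U → b j ∈ U → R a b := by
    intro a b ha hb
    by_cases hab : a j = b j
    · exact hfib a b ha hab
    obtain ⟨ρ, h1, h2, h3⟩ := exists_pair_map_mem (Ne.symm hz₀) hab hz₀U hwzU ha hb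
    have := inv 1 (Function.update 1 j ρ) rfl (fun y => by rw [Function.update_self]; exact h3 y)
      z₀ (w z₀) hz₀U ⟨w, hw, rfl⟩
    refine rt _ _ _ (hfib a _ ha ?_) (rt _ _ _ this (hfib _ b ?_ ?_))
    · show a j = at' j ρ z₀ j
      rw [at'_apply_self, h1]
    · show at' j ρ (w z₀) j ∈ U
      rw [at'_apply_self, h2]; exact hb
    · show at' j ρ (w z₀) j = b j
      rw [at'_apply_self, h2]
  rcases h2.lt_or_eq with hlt | heq
  · refine hA (hG.giant_of_small hm (region j U) ?_ ?_ fun p hp q hq => ?_)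
    · rw [card_region]
      have := Finset.card_pos.2 h1
      calc 1 < Fintype.card α ^ (Fintype.card ι - 1) :=
            Nat.one_lt_pow (by have := Fintype.one_lt_card (α := ι); omega) (by omega)
        _ ≤ _ := Nat.le_mul_of_pos_left _ this
    · rw [card_region, card_points j, ← mul_assoc]
      exact Nat.mul_lt_mul_of_pos_right hlt (Nat.pow_pos (by omega))
    · rw [mem_region] at hp hq
      obtain ⟨w, hw, hwp⟩ := htr p q hp hq
      exact ⟨w, hw.1, fun z hz => hw.2 z (mt mem_region.2 hz), hwp⟩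
  · exact hA (hG.giant_of_half hm heq ha₁ htr hhK hi hxi)

end CfsgLib.ProdAct
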