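import Cfsg.Agent.Perm.ProdAct.Defs

/-! Small permutations and propagation of relations along lines. -/

set_option autoImplicit false

namespace CfsgLib.ProdAct

open Equiv Equiv.Perm

universe u v

variable {ι : Type u} {α : Type v} [DecidableEq α]

omit [DecidableEq α] in
theorem exists_avoid [Fintype α] (s : Finset α) (h : s.card < Fintype.card α) : ∃ c, c ∉ s := by
  obtain ⟨c, -, hc⟩ := Finset.exists_mem_notMem_of_card_lt_card
    (s := s) (t := Finset.univ) (by rwa [Finset.card_univ])
  exact ⟨c, hc⟩

theorem exists_avoid_two [Fintype α] (hm : 3 ≤ Fintype.card α) (a b : α) :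
    ∃ c, c ≠ a ∧ c ≠ b := by
  obtain ⟨c, hc⟩ := exists_avoid {a, b} (lt_of_le_of_lt Finset.card_le_two (by omega))
  simp only [Finset.mem_insert, Finset.mem_singleton, not_or] at hc
  exact ⟨c, hc⟩

theorem exists_avoid_three [Fintype α] (hm : 4 ≤ Fintype.card α) (a b d : α) :
    ∃ c, c ≠ a ∧ c ≠ b ∧ c ≠ d := by
  obtain ⟨c, hc⟩ := exists_avoid {a, b, d} (lt_of_le_of_lt Finset.card_le_three (by omega))
  simp only [Finset.mem_insert, Finset.mem_singleton, not_or] at hc
  exact ⟨c, hc⟩

/-- The cycle `a → b → c → a`. -/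
def cyc3 (a b c : α) : Perm α := swap a b * swap b c

theorem cyc3_fst {a b c : α} (hab : a ≠ b) (hac : a ≠ c) : cyc3 a b c a = b := by
  simp [cyc3, swap_apply_of_ne_of_ne hab hac]

theorem cyc3_snd {a b c : α} (hac : a ≠ c) (hbc : b ≠ c) : cyc3 a b c b = c := by
  simp [cyc3, swap_apply_of_ne_of_ne hac.symm hbc.symm]

theorem cyc3_other {a b c d : α} (ha : d ≠ a) (hb : d ≠ b) (hc : d ≠ c) : cyc3 a b c d = d := by
  simp [cyc3, swap_apply_of_ne_of_ne hb hc, swap_apply_of_ne_of_ne ha hb]

theorem sign_cyc3 [Fintype α] {a b c : α} (hab : a ≠ b) (hbc : b ≠ c) :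
    sign (cyc3 a b c) = 1 := by
  rw [cyc3, map_mul, sign_swap hab, sign_swap hbc]; rfl

/-- An even permutation with a prescribed value. -/
theorem exists_even_map [Fintype α] (hm : 3 ≤ Fintype.card α) (a b : α) :
    ∃ ρ : Perm α, sign ρ = 1 ∧ ρ a = b := by
  by_cases h : a = b
  · exact ⟨1, map_one _, h⟩
  · obtain ⟨c, hca, hcb⟩ := exists_avoid_two hm a b
    exact ⟨cyc3 a b c, sign_cyc3 h hcb.symm, cyc3_fst h hca.symm⟩

theorem exists_pair_map {a b x y : α} (hab : a ≠ b) (hxy : x ≠ y) :
    ∃ ρ : Perm α, ρ a = x ∧ ρ b = y := by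
  refine ⟨swap (swap a x b) y * swap a x, ?_, by simp⟩
  rw [Perm.mul_apply, swap_apply_left, swap_apply_of_ne_of_ne _ hxy]
  intro h
  exact hab ((swap a x).injective (by rw [swap_apply_left]; exact h))

variable [DecidableEq ι]

/-- An element of the wreath product carrying one line step to another. -/
theorem exists_line_map (p a : ι → α) (i o : ι) {c e : α} (hc : c ≠ p i) (he : e ≠ a o) :
    ∃ τ : ι → Perm α, pr (swap i o) τ p = a ∧
      pr (swap i o) τ (Function.update p i c) = Function.update a o e ∧
      ∀ s, s ≠ o → τ s = swap (p (swap i o s)) (a s) := by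
  obtain ⟨ρ, hρ1, hρ2⟩ := exists_pair_map hc.symm he.symm
  refine ⟨fun s => if s = o then ρ else swap (p (swap i o s)) (a s), ?_, ?_, fun s hs => if_neg hs⟩
  · funext s
    rw [pr_apply, symm_swap]
    by_cases hs : s = o
    · subst hs; simp [hρ1]
    · simp [hs]
  · funext s
    rw [pr_apply, symm_swap]
    by_cases hs : s = o
    · subst hs; simp [hρ2]
    · have : swap i o s ≠ i := fun h => hs ((swap i o).injective (h.trans (swap_apply_right i o).symm))
      simp [hs, Function.update_of_ne this, Function.update_of_ne hs]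

/-- A transitive relation containing all line steps contains all pairs. -/
theorem rel_of_lines [Fintype ι] (R : (ι → α) → (ι → α) → Prop) (P : (ι → α) → Prop)
    (ok : ι → Prop) (refl : ∀ a, P a → R a a) (trans : ∀ a b c, R a b → R b c → R a c)
    (closed : ∀ a o e, P a → ok o → P (Function.update a o e))
    (fixed : ∀ a b k, P a → P b → ¬ ok k → a k = b k)
    (line : ∀ a o e, P a → ok o → e ≠ a o → R a (Function.update a o e))
    (a b : ι → α) (ha : P a) (hb : P b) : R a b := by
  suffices H : ∀ s : Finset ι, ∀ a, P a → (∀ k ∉ s, a k = b k) → R a b from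
    H Finset.univ a ha fun k hk => absurd (Finset.mem_univ k) hk
  intro s
  induction s using Finset.induction with
  | empty => intro a ha h; rw [show a = b from funext fun k => h k (Finset.notMem_empty k)]; exact refl b hb
  | insert o s _ ih =>
    intro a ha h
    by_cases hab : a o = b o
    · refine ih a ha fun k hk => ?_
      by_cases hko : k = o
      · rw [hko, hab]
      · exact h k (by simp [hko, hk])
    · have hok : ok o := by by_contra hn; exact hab (fixed a b o ha hb hn)
      refine trans _ _ _ (line a o (b o) ha hok (Ne.symm hab))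
        (ih _ (closed a o _ ha hok) fun k hk => ?_)
      by_cases hko : k = o
      · rw [hko, Function.update_self]
      · rw [Function.update_of_ne hko]; exact h k (by simp [hko, hk])

/-- A relation on a fibre invariant under the stabiliser of the coordinate is trivial or full. -/
theorem rel_spread [Fintype ι] [Fintype α] (hm : 3 ≤ Fintype.card α) {l : ι} {v : α}
    (R : (ι → α) → (ι → α) → Prop) (symm : ∀ a b, R a b → R b a)
    (trans : ∀ a b c, R a b → R b c → R a c) (refl : ∀ a, a l = v → R a a)
    (inv : ∀ π τ a b, π l = l → τ l = 1 → a l = v → b l = v → R a b → R (pr π τ a) (pr π τ b))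
    {p q : ι → α} (hp : p l = v) (hq : q l = v) {i : ι} (hi : i ≠ l) (hne : p i ≠ q i)
    (h : R p q) (a b : ι → α) (ha : a l = v) (hb : b l = v) : R a b := by
  obtain ⟨c, hc1, hc2⟩ := exists_avoid_two hm (p i) (q i)
  have hstep : R p (Function.update p i c) := by
    have := inv 1 (Function.update 1 i (swap (p i) c)) p q rfl
      (Function.update_of_ne hi.symm _ _) hp hq h
    change R (at' i (swap (p i) c) p) (at' i (swap (p i) c) q) at this
    rw [at'_apply, swap_apply_left, at'_fix (swap_apply_of_ne_of_ne hne.symm hc2.symm)] at this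
    exact symm _ _ (trans _ _ _ this (symm _ _ h))
  refine rel_of_lines R (fun a => a l = v) (fun o => o ≠ l) refl trans
    (fun a o e ha ho => by rw [Function.update_of_ne (Ne.symm ho)]; exact ha)
    (fun a b k ha hb hk => by rw [not_not.1 hk, ha, hb]) (fun a o e ha ho he => ?_) a b ha hb
  obtain ⟨τ, h1, h2, h3⟩ := exists_line_map p a i o hc1 he
  have hl : swap i o l = l := swap_apply_of_ne_of_ne hi.symm (Ne.symm ho)
  have hτ : τ l = 1 := by rw [h3 l (Ne.symm ho), hl, hp, ha, swap_self]; rfl
  have := inv _ τ p _ hl hτ hp (by rw [Function.update_of_ne hi.symm]; exact hp) hstep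
  rwa [h1, h2] at this

end CfsgLib.ProdAct
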